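import Cfsg.Agent.Omega.NO3S.SN.TwoP.Count
import Cfsg.Agent.Omega.NSix.CaseJ.Exact

/-!
# LightL, `J(O₂(C_G(Z_J)))` moves `V` (helper411 #25060 (A), helper604 #25153 (J1)): members of `A(O')`

`V ≤ O'` elementary abelian, `A ≤ O'` elementary abelian of maximal order (among the elementary abelian subgroups of
`O'`), `A = A₀ ⟨a⟩`, `A₀ = A ∩ C(V)`, `[V, a] = ⟨p⟩`.

* `Of V O' A a p` : this situation;
* `Of.count0` : `|X| |C_{A₀}(X)| ≤ |A₀| |C_X(A₀)|` for `V ≤ X ≤ O'` elementary abelian;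
* `Of.act` : `x ∈ X`, `[x, A₀] = 1` imply `x^a ∈ {x, x p}`.
-/

set_option autoImplicit false
set_option linter.unusedSectionVars false

namespace Cfsg.Agent.Omega.NO3S.TwoA

open Subgroup Cfsg Cfsg.Agent.PLocal.ThompsonJ Cfsg.Agent.ZN Cfsg.Agent.ZN.ChoiceBase
open Cfsg.Agent.PLocal.ElemAbSup
open Cfsg.Agent.Omega.SQ1.Bau (elem_comm elem_sq mem_sup_comm card_sup_comm)
open Cfsg.Agent.Omega.NSix.CaseJ.Exact (sup_elem)

universe u

variable {G : Type u} [Group G] [Finite G]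

/-- **The basic count** in `O'`. -/
theorem count {O' A X : Subgroup G} (hA : IsElementaryAbelian 2 A) (hAO : A ≤ O')
    (hX : IsElementaryAbelian 2 X) (hXO : X ≤ O')
    (hc : ∀ B : Subgroup G, IsElementaryAbelian 2 B → B ≤ O' → Nat.card B ≤ Nat.card A) :
    Nat.card X * Nat.card ↥(A ⊓ centralizer (X : Set G)) ≤
      Nat.card A * Nat.card ↥(X ⊓ centralizer (A : Set G)) := by
  have hcm : ∀ x ∈ X, ∀ a ∈ A ⊓ centralizer (X : Set G), x * a = a * x := fun x hx a ha =>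
    mem_centralizer_iff.1 ha.2 x hx
  have h1 := sup_elem hX (isElementaryAbelian_mono hA inf_le_left) hcm
  have h2 := card_sup_comm hcm
  have h3 : Nat.card ↥(X ⊓ (A ⊓ centralizer (X : Set G))) ≤
      Nat.card ↥(X ⊓ centralizer (A : Set G)) :=
    Subgroup.card_le_of_le fun x hx => ⟨hx.1, mem_centralizer_iff.2 fun a ha => elem_comm hA a ha x hx.2.1⟩
  rw [← h2]
  exact Nat.mul_le_mul (hc _ h1 (sup_le hXO (inf_le_left.trans hAO))) h3

/-- `A ∈ A(O')` acts on `V` as `⟨a⟩` with `[V, a] = ⟨p⟩`. -/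
structure Of (V O' A : Subgroup G) (a p : G) : Prop where
  elem : IsElementaryAbelian 2 A
  le : A ≤ O'
  max : ∀ B : Subgroup G, IsElementaryAbelian 2 B → B ≤ O' → Nat.card B ≤ Nat.card A
  Vel : IsElementaryAbelian 2 V
  VO : V ≤ O'
  aA : a ∈ A
  nV : ∃ v ∈ V, a * v ≠ v * a
  pV : p ∈ V
  cV : ∀ v ∈ V, a * v * a⁻¹ = v ∨ a * v * a⁻¹ = v * p
  two : ∀ b ∈ A, b ∉ centralizer (V : Set G) → a⁻¹ * b ∈ centralizer (V : Set G)

namespace Of

variable {V O' A : Subgroup G} {a p : G} (h : Of V O' A a p)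
include h

theorem na : a ∉ centralizer (V : Set G) := fun h0 => by
  obtain ⟨v, hv, hav⟩ := h.nV
  exact hav (mem_centralizer_iff.1 h0 v hv).symm

/-- `A₀` and `V` commute. -/
theorem A0_comm : ∀ b ∈ A ⊓ centralizer (V : Set G), ∀ v ∈ V, b * v = v * b :=
  fun _ hb v hv => (mem_centralizer_iff.1 hb.2 v hv).symm

/-- `|A| ≤ 2 |A₀|`. -/
theorem card_A0 : Nat.card A ≤ 2 * Nat.card ↥(A ⊓ centralizer (V : Set G)) := by
  set A0 := A ⊓ centralizer (V : Set G) with hA0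
  let φ : ↥A0 ⊕ ↥A0 → ↥A :=
    Sum.elim (fun b : ↥A0 => (⟨b.1, b.2.1⟩ : ↥A)) fun b : ↥A0 => (⟨a * b.1, A.mul_mem h.aA b.2.1⟩ : ↥A)
  have hφ : Function.Surjective φ := by
    rintro ⟨b, hb⟩
    by_cases hb' : b ∈ centralizer (V : Set G)
    · exact ⟨Sum.inl ⟨b, hb, hb'⟩, rfl⟩
    · refine ⟨Sum.inr ⟨a⁻¹ * b, A.mul_mem (A.inv_mem h.aA) hb, h.two b hb hb'⟩, Subtype.ext ?_⟩
      exact mul_inv_cancel_left a b
  have h1 := Nat.card_le_card_of_surjective φ hφ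
  rwa [Nat.card_sum, ← two_mul] at h1

/-- `a` moves half of `V`. -/
theorem half : 2 * Nat.card ↥((A ⊓ centralizer (V : Set G)) ⊓ V) ≤ Nat.card V := by
  refine NSix.CaseJ.Exact.two_mul_card_le inf_le_right fun hle => ?_
  obtain ⟨v, hv, hav⟩ := h.nV
  exact hav (elem_comm h.elem a h.aA v (hle hv).1.1)

theorem card_le : Nat.card A ≤ Nat.card ↥((A ⊓ centralizer (V : Set G)) ⊔ V : Subgroup G) := by
  have h1 := card_sup_comm h.A0_comm
  have h2 := h.half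
  have h3 := h.card_A0
  set A0 := A ⊓ centralizer (V : Set G) with hA0
  have hp : 0 < Nat.card ↥(A0 ⊓ V) := Nat.card_pos
  have h4 : Nat.card A * Nat.card ↥(A0 ⊓ V) ≤ Nat.card ↥(A0 ⊔ V : Subgroup G) * Nat.card ↥(A0 ⊓ V) := by
    rw [h1]
    calc Nat.card A * Nat.card ↥(A0 ⊓ V) ≤ 2 * Nat.card A0 * Nat.card ↥(A0 ⊓ V) := Nat.mul_le_mul_right _ h3
      _ = Nat.card A0 * (2 * Nat.card ↥(A0 ⊓ V)) := by ring
      _ ≤ Nat.card A0 * Nat.card V := Nat.mul_le_mul_left _ h2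
  exact Nat.le_of_mul_le_mul_right h4 hp

/-- `A₀ V` is elementary abelian. -/
theorem sup_el : IsElementaryAbelian 2 ((A ⊓ centralizer (V : Set G)) ⊔ V : Subgroup G) :=
  sup_elem (isElementaryAbelian_mono h.elem inf_le_left) h.Vel h.A0_comm

theorem sup_leO : (A ⊓ centralizer (V : Set G)) ⊔ V ≤ O' := sup_le (inf_le_left.trans h.le) h.VO

theorem sup_max (B : Subgroup G) (hB : IsElementaryAbelian 2 B) (hBO : B ≤ O') :
    Nat.card B ≤ Nat.card ↥((A ⊓ centralizer (V : Set G)) ⊔ V : Subgroup G) := (h.max B hB hBO).trans h.card_le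

/-- **the count** `|X : C_X(A₀)| ≤ |A₀ : C_{A₀}(X)|`. -/
theorem count0 {X : Subgroup G} (hX : IsElementaryAbelian 2 X) (hVX : V ≤ X) (hXO : X ≤ O') :
    Nat.card X * Nat.card ↥((A ⊓ centralizer (V : Set G)) ⊓ centralizer (X : Set G)) ≤
    Nat.card ↥(A ⊓ centralizer (V : Set G)) *
      Nat.card ↥(X ⊓ centralizer ((A ⊓ centralizer (V : Set G) : Subgroup G) : Set G)) := by
  have h0 := h.sup_el
  have hm := h.sup_max
  have hO := h.sup_leO
  have hcm := h.A0_comm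
  set A0 := A ⊓ centralizer (V : Set G) with hA0
  have h1 := count h0 hO hX hXO hm
  have h2 : X ⊓ centralizer ((A0 ⊔ V : Subgroup G) : Set G) ≤ X ⊓ centralizer (A0 : Set G) :=
    inf_le_inf_left _ (centralizer_le (SetLike.coe_subset_coe.2 le_sup_left))
  have hVc : V ≤ centralizer (X : Set G) := fun v hv => mem_centralizer_iff.2 fun x hx =>
    elem_comm hX x hx v (hVX hv)
  have h3 : (A0 ⊓ centralizer (X : Set G)) ⊔ V ≤ (A0 ⊔ V) ⊓ centralizer (X : Set G) :=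
    sup_le (le_inf (inf_le_left.trans le_sup_left) inf_le_right) (le_inf le_sup_right hVc)
  have h4 := card_sup_comm (A := A0 ⊓ centralizer (X : Set G)) (B := V) fun a ha v hv => hcm a ha.1 v hv
  have h5 := card_sup_comm hcm
  have h6 : A0 ⊓ centralizer (X : Set G) ⊓ V = A0 ⊓ V := by
    apply le_antisymm
    · exact fun x hx => ⟨hx.1.1, hx.2⟩
    · exact fun x hx => ⟨⟨hx.1, hVc hx.2⟩, hx.2⟩
  rw [h6] at h4
  have hVp : 0 < Nat.card V := Nat.card_pos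
  have h7 := Subgroup.card_le_of_le h2
  have h8 := Subgroup.card_le_of_le h3
  refine Nat.le_of_mul_le_mul_right ?_ hVp
  calc Nat.card X * Nat.card ↥(A0 ⊓ centralizer (X : Set G)) * Nat.card V
      = Nat.card X * Nat.card ↥((A0 ⊓ centralizer (X : Set G)) ⊔ V : Subgroup G) * Nat.card ↥(A0 ⊓ V) := by
        rw [mul_assoc, ← h4, mul_assoc]
    _ ≤ Nat.card X * Nat.card ↥((A0 ⊔ V) ⊓ centralizer (X : Set G)) * Nat.card ↥(A0 ⊓ V) :=
        Nat.mul_le_mul_right _ (Nat.mul_le_mul_left _ h8)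
    _ ≤ Nat.card ↥(A0 ⊔ V : Subgroup G) * Nat.card ↥(X ⊓ centralizer ((A0 ⊔ V : Subgroup G) : Set G)) *
          Nat.card ↥(A0 ⊓ V) := Nat.mul_le_mul_right _ h1
    _ ≤ Nat.card ↥(A0 ⊔ V : Subgroup G) * Nat.card ↥(X ⊓ centralizer (A0 : Set G)) * Nat.card ↥(A0 ⊓ V) :=
        Nat.mul_le_mul_right _ (Nat.mul_le_mul_left _ h7)
    _ = Nat.card A0 * Nat.card ↥(X ⊓ centralizer (A0 : Set G)) * Nat.card V := by
        rw [mul_right_comm, h5, mul_right_comm]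

/-- **(E), first part**: `X = V C_X(A)` if `A₀` centralises `X ≥ V`. -/
theorem split {X : Subgroup G} (hX : IsElementaryAbelian 2 X) (hVX : V ≤ X) (hXO : X ≤ O')
    (hc : ∀ b ∈ A ⊓ centralizer (V : Set G), ∀ x ∈ X, b * x = x * b)
    {x : G} (hx : x ∈ X) : ∃ v ∈ V, ∃ c ∈ X, (∀ b ∈ A, b * c = c * b) ∧ x = v * c := by
  have h0 := h.card_A0
  set A0 := A ⊓ centralizer (V : Set G) with hA0
  have h1 := count h.elem h.le hX hXO h.max
  have h2 : A ⊓ centralizer (X : Set G) = A0 := by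
    apply le_antisymm
    · exact fun b hb => ⟨hb.1, mem_centralizer_iff.2 fun v hv => mem_centralizer_iff.1 hb.2 v (hVX hv)⟩
    · exact fun b hb => ⟨hb.1, mem_centralizer_iff.2 fun v hv => (hc b hb v hv).symm⟩
  rw [h2] at h1
  set C := X ⊓ centralizer (A : Set G) with hC
  have hA0p : 0 < Nat.card A0 := Nat.card_pos
  have h3 : Nat.card X ≤ 2 * Nat.card C := by
    have h4 : Nat.card A0 * Nat.card X ≤ Nat.card A0 * (2 * Nat.card C) := by
      calc Nat.card A0 * Nat.card X = Nat.card X * Nat.card A0 := mul_comm _ _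
        _ ≤ Nat.card A * Nat.card C := h1
        _ ≤ 2 * Nat.card A0 * Nat.card C := Nat.mul_le_mul_right _ h0
        _ = Nat.card A0 * (2 * Nat.card C) := by ring
    exact Nat.le_of_mul_le_mul_left h4 hA0p
  obtain ⟨v₀, hv₀, hav₀⟩ := h.nV
  have hcm : ∀ v ∈ V, ∀ c ∈ C, v * c = c * v := fun v hv c hc' => elem_comm hX v (hVX hv) c hc'.1
  have h5 : C ≤ V ⊔ C := le_sup_right
  have h6 : ¬ V ⊔ C ≤ C := fun hle => hav₀ (mem_centralizer_iff.1 (hle (mem_sup_left hv₀)).2 a h.aA)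
  have h7 := NSix.CaseJ.Exact.two_mul_card_le h5 h6
  have h8 : V ⊔ C = X := Subgroup.eq_of_le_of_card_ge (sup_le hVX inf_le_left) (h3.trans h7)
  rw [← h8] at hx
  obtain ⟨v, hv, c, hc', rfl⟩ := mem_sup_comm hcm hx
  exact ⟨v, hv, c, hc'.1, fun b hb => mem_centralizer_iff.1 hc'.2 b hb, rfl⟩

/-- **(E)**: `[C_X(A₀), a] ≤ ⟨p⟩`. -/
theorem act {X : Subgroup G} (hX : IsElementaryAbelian 2 X) (hVX : V ≤ X) (hXO : X ≤ O') {x : G} (hx : x ∈ X)
    (hc : ∀ b ∈ A ⊓ centralizer (V : Set G), b * x = x * b) :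
    a * x * a⁻¹ = x ∨ a * x * a⁻¹ = x * p := by
  have h1 : V ≤ X ⊓ centralizer ((A ⊓ centralizer (V : Set G) : Subgroup G) : Set G) := fun v hv =>
    ⟨hVX hv, mem_centralizer_iff.2 fun b hb => h.A0_comm b hb v hv⟩
  obtain ⟨v, hv, c, hc', h2, rfl⟩ := h.split (isElementaryAbelian_mono hX inf_le_left) h1 (inf_le_left.trans hXO)
    (fun b hb y hy => mem_centralizer_iff.1 hy.2 b hb) (x := x) ⟨hx, mem_centralizer_iff.2 fun b hb => hc b hb⟩
  have e1 : a * c * a⁻¹ = c := by rw [h2 a h.aA, mul_inv_cancel_right]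
  have e2 : a * (v * c) * a⁻¹ = a * v * a⁻¹ * (a * c * a⁻¹) := by group
  rw [e2, e1]
  rcases h.cV v hv with h9 | h9
  · left; rw [h9]
  · right
    rw [h9, mul_assoc, mul_assoc, elem_comm hX _ (hVX h.pV) c hc'.1]

end Of

end Cfsg.Agent.Omega.NO3S.TwoA
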