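import Cfsg.Agent.Omega.NO3S.SN.TwoP.Five

/-!
# (A) of helper411 #25060 = (J1) of helper604 #25153 (TWO PAIRS, helper586 #20800 (4), (5)): the abstract count

* `five` : no levels, no stage, no letters.
-/

set_option autoImplicit false
set_option linter.unusedSectionVars false

namespace Cfsg.Agent.Omega.NO3S.TwoA

open Subgroup Cfsg Cfsg.Agent.PLocal.ThompsonJ Cfsg.Agent.ZN Cfsg.Agent.ZN.ChoiceBase
open Cfsg.Agent.ZN.ChoiceSit Cfsg.Agent.PLocal.ElemAbSup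
open Cfsg.Agent.Omega.SQ1.Bau (mem_AA_of_comm elem_comm elem_sq mem_sup_comm card_sup_comm)
open Cfsg.Agent.Omega.NO3S.SN.TwoP (qf qf_mul qf_eq_zero comm_prod comm_iff count2 split2)

universe u

variable {G : Type u} [Group G] [Finite G]

/-- **The count and the end of TWO PAIRS.** -/
theorem five {U V E₁ E₂ R K A0 Q F₁ F₂ : Subgroup G} {x y x' y' w₂ a : G} {κ : ℕ}
    (Uel : IsElementaryAbelian 2 U) (hVU : V ≤ U) (hE1 : E₁ ≤ U) (hE2 : E₂ ≤ U) (hE : V ≤ E₁ ⊔ E₂)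
    (hxx : x * x = 1) (hyy : y * y = 1) (hxU : x ∈ U) (hyU : y ∈ U) (hx1 : x ≠ 1) (hy1 : y ≠ 1) (hne : x ≠ y)
    (hxE : x ∈ E₁) (hyE : y ∈ E₂)
    (Rx : ∀ r ∈ R, r * x * r⁻¹ = x) (Ry : ∀ r ∈ R, r * y * r⁻¹ = y)
    (nE1 : ∀ r ∈ R, ∀ e ∈ E₁, r * e * r⁻¹ ∈ E₁) (nE2 : ∀ r ∈ R, ∀ e ∈ E₂, r * e * r⁻¹ ∈ E₂)
    (nU : ∀ r ∈ R, ∀ e ∈ U, r * e * r⁻¹ ∈ U) (haU : ∀ e ∈ U, a * e * a⁻¹ ∈ U)
    (cE1 : ∀ b ∈ K, ∀ e ∈ E₁, b * e * b⁻¹ * e⁻¹ = 1 ∨ b * e * b⁻¹ * e⁻¹ = x)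
    (cE2 : ∀ b ∈ K, ∀ e ∈ E₂, b * e * b⁻¹ * e⁻¹ = 1 ∨ b * e * b⁻¹ * e⁻¹ = y)
    (hA0R : A0 ≤ R) (hQR : Q ≤ R) (hA0V : ∀ b ∈ A0, ∀ v ∈ V, b * v = v * b)
    (hQV : ∀ b ∈ Q, ∀ v ∈ V, b * v = v * b) (haQ : ∀ q ∈ Q, a * q * a⁻¹ ∈ Q)
    (haA : ∀ b ∈ A0, a * b = b * a)
    (hxa : a * x * a⁻¹ = x') (hya : a * y * a⁻¹ = y') (hxya : a * (x * y) * a⁻¹ = x * y)
    (n1 : x' ≠ 1 ∧ x' ≠ x ∧ x' ≠ y ∧ x' ≠ x * y) (n2 : y' ≠ 1 ∧ y' ≠ x ∧ y' ≠ y ∧ y' ≠ x * y)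
    (hcK : ∀ b ∈ A0, (∀ e ∈ E₁, b * e * b⁻¹ * e⁻¹ ∈ E₁ ⊓ E₂) → b ∈ K)
    (cnt0 : Nat.card ↥((V ⊔ (E₁ ⊔ E₂)) ⊔ cj a (V ⊔ (E₁ ⊔ E₂))) *
      Nat.card ↥(A0 ⊓ centralizer (((V ⊔ (E₁ ⊔ E₂)) ⊔ cj a (V ⊔ (E₁ ⊔ E₂)) : Subgroup G) : Set G)) ≤
      Nat.card A0 * Nat.card ↥(((V ⊔ (E₁ ⊔ E₂)) ⊔ cj a (V ⊔ (E₁ ⊔ E₂))) ⊓ centralizer (A0 : Set G)))
    (act : ∀ e ∈ E₁, (∀ b ∈ A0, b * e = e * b) → ∃ v ∈ V, a * e * a⁻¹ = e * v)
    (hF1 : ∀ e, e ∈ F₁ ↔ e ∈ E₁ ∧ ∀ b ∈ A0, b * e * b⁻¹ * e⁻¹ ∈ E₁ ⊓ E₂)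
    (hF2 : ∀ e, e ∈ F₂ ↔ e ∈ E₂ ∧ ∀ b ∈ A0, b * e * b⁻¹ * e⁻¹ ∈ E₁ ⊓ E₂)
    (hκ : κ * Nat.card ↥(A0 ⊓ K) = Nat.card A0)
    (k1 : κ * Nat.card F₁ ≤ Nat.card E₁) (k2 : κ * Nat.card F₂ ≤ Nat.card E₂)
    (H3 : ∃ e ∈ E₁, ∃ q ∈ K ⊓ Q, q * e ≠ e * q)
    (hw : x' ∈ E₁ → w₂ ∈ E₁) (hw2 : w₂ ∈ E₂) (H1 : ∃ b ∈ K, b * w₂ ≠ w₂ * b) : False := by
  classical
  have Uc : ∀ u ∈ U, ∀ v ∈ U, u * v = v * u := elem_comm Uel
  have hxy : x * y = y * x := Uc x hxU y hyU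
  set B₁ := A0 ⊓ K with hB₁
  set E := V ⊔ (E₁ ⊔ E₂) with hEd
  have hEW : E ≤ U := sup_le hVU (sup_le hE1 hE2)
  have hmE : ∀ e ∈ E, ∃ v ∈ V, ∃ e₁ ∈ E₁, ∃ e₂ ∈ E₂, e = v * (e₁ * e₂) := by
    intro e he
    obtain ⟨v, hv, w, hw, rfl⟩ := mem_sup_comm (fun x hx y hy => Uc x (hVU hx) y (sup_le hE1 hE2 hy)) he
    obtain ⟨e₁, he₁, e₂, he₂, rfl⟩ := mem_sup_comm (fun x hx y hy => Uc x (hE1 hx) y (hE2 hy)) hw
    exact ⟨v, hv, e₁, he₁, e₂, he₂, rfl⟩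
  have cprod : ∀ b ∈ R, ∀ e ∈ U, ∀ e' ∈ U,
      b * (e * e') * b⁻¹ * (e * e')⁻¹ = (b * e * b⁻¹ * e⁻¹) * (b * e' * b⁻¹ * e'⁻¹) := by
    intro b hb e he e' he'
    exact comm_prod (Uc _ he _ (mul_mem (nU b hb e' he') (inv_mem he')))
  have cE : ∀ b ∈ B₁, ∀ e ∈ E, b * e * b⁻¹ * e⁻¹ = 1 ∨ b * e * b⁻¹ * e⁻¹ = x ∨ b * e * b⁻¹ * e⁻¹ = y ∨
      b * e * b⁻¹ * e⁻¹ = x * y := by
    intro b hb e he
    obtain ⟨v, hv, e₁, he₁, e₂, he₂, rfl⟩ := hmE e he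
    have hbR := hA0R hb.1
    rw [cprod b hbR v (hVU hv) _ (mul_mem (hE1 he₁) (hE2 he₂)), cprod b hbR e₁ (hE1 he₁) e₂ (hE2 he₂),
      comm_iff.2 (hA0V b hb.1 v hv), one_mul]
    rcases cE1 b hb.2 e₁ he₁ with h4 | h4 <;> rcases cE2 b hb.2 e₂ he₂ with h5 | h5 <;> rw [h4, h5]
    · left; rw [one_mul]
    · right; right; left; rw [one_mul]
    · right; left; rw [mul_one]
    · right; right; right; rfl
  have hR4 : ∀ r ∈ R, ∀ g : G, (g = 1 ∨ g = x ∨ g = y ∨ g = x * y) → r * g * r⁻¹ = g := by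
    intro r hr g hg
    rcases hg with rfl | rfl | rfl | rfl
    · group
    · exact Rx r hr
    · exact Ry r hr
    · have e1 : r * (x * y) * r⁻¹ = (r * x * r⁻¹) * (r * y * r⁻¹) := by group
      rw [e1, Rx r hr, Ry r hr]
  have hE1E : E₁ ≤ E := le_sup_left.trans le_sup_right
  have hE2E : E₂ ≤ E := le_sup_right.trans le_sup_right
  have hVE : V ≤ E := le_sup_left
  -- centralisers lie in `K`
  have hcO : ∀ b ∈ A0, (∀ e ∈ E, b * e = e * b) → b ∈ B₁ := by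
    intro b hb hbe
    refine ⟨hb, hcK b hb fun e he => ?_⟩
    rw [comm_iff.2 (hbe e (hE1E he))]
    exact one_mem _
  have hel : IsElementaryAbelian 2 (E ⊔ cj a E : Subgroup G) :=
    isElementaryAbelian_mono Uel (sup_le hEW (by
      rintro _ ⟨e, he, rfl⟩
      exact haU e (hEW he)))
  have hcount := count2 (B := A0) (B₁ := B₁) (E := E) (U := U) (a := a) hEW
    (fun e he => haU e (hEW he)) Uc
    haA inf_le_left hcO
    (fun e b => qf x y (b * e * b⁻¹ * e⁻¹))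
    (by
      intro e he e' he' b hb
      rw [cprod b (hA0R hb.1) e (hEW he) e' (hEW he')]
      exact qf_mul hxx hyy hxy hx1 hy1 hne (cE b hb e he) (cE b hb e' he'))
    (by
      intro e he b hb b' hb'
      have e1 : (b * b') * e * (b * b')⁻¹ * e⁻¹ = b * (b' * e * b'⁻¹ * e⁻¹) * b⁻¹ * (b * e * b⁻¹ * e⁻¹) := by group
      rw [e1, hR4 b (hA0R hb.1) _ (cE b' hb' e he), add_comm]
      exact qf_mul hxx hyy hxy hx1 hy1 hne (cE b' hb' e he) (cE b hb e he))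
    (by
      intro b hb h4
      have h5 : ∀ e ∈ E₁, b * e = e * b := by
        intro e he
        have h6 := qf_eq_zero.1 (h4 e (hE1E he))
        rw [← comm_iff]
        rcases cE1 b hb.2 e he with h7 | h7
        · exact h7
        · exfalso
          rw [h7] at h6
          rcases h6 with h6 | h6
          · exact hx1 h6
          · exact hy1 (left_eq_mul.1 h6)
      have h6 : ∀ e ∈ E₂, b * e = e * b := by
        intro e he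
        have h6 := qf_eq_zero.1 (h4 e (hE2E he))
        rw [← comm_iff]
        rcases cE2 b hb.2 e he with h7 | h7
        · exact h7
        · exfalso
          rw [h7] at h6
          rcases h6 with h6 | h6
          · exact hy1 h6
          · exact hx1 (right_eq_mul.1 h6)
      intro e he
      obtain ⟨v, hv, e₁, he₁, e₂, he₂, rfl⟩ := hmE e he
      have c1 : Commute b v := hA0V b hb.1 v hv
      have c2 : Commute b e₁ := h5 e₁ he₁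
      have c3 : Commute b e₂ := h6 e₂ he₂
      exact (c1.mul_right (c2.mul_right c3)).eq)
    (by
      intro e he e' he' b hb h4
      rw [qf_eq_zero]
      have h5 : b * e * b⁻¹ * e⁻¹ = 1 ∨ b * e * b⁻¹ * e⁻¹ = x' ∨ b * e * b⁻¹ * e⁻¹ = y' ∨
          b * e * b⁻¹ * e⁻¹ = x * y := by
        rw [h4]
        rcases cE b hb e' he' with h6 | h6 | h6 | h6 <;> rw [h6]
        · left; group
        · right; left; exact hxa
        · right; right; left; exact hya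
        · right; right; right; exact hxya
      rcases cE b hb e he with h6 | h6 | h6 | h6
      · exact Or.inl h6
      · exfalso
        rw [h6] at h5
        rcases h5 with h7 | h7 | h7 | h7
        · exact hx1 h7
        · exact n1.2.1 h7.symm
        · exact n2.2.1 h7.symm
        · exact hy1 (left_eq_mul.1 h7)
      · exfalso
        rw [h6] at h5
        rcases h5 with h7 | h7 | h7 | h7
        · exact hy1 h7
        · exact n1.2.2.1 h7.symm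
        · exact n2.2.2.1 h7.symm
        · exact hx1 (right_eq_mul.1 h7)
      · exact Or.inr h6)
    cnt0
  -- the lower bound
  have hlow := split2 (B := A0) (E₁ := E₁) (E₂ := E₂) (V := V) (U := U) (k := κ)
    Uc hVU hE1 hE2
    (fun v hv => mem_centralizer_iff.2 fun b hb => hA0V b hb v hv) (fun b hb => nE1 b (hA0R hb))
    (fun b hb => nE2 b (hA0R hb)) hF1 hF2 k1 k2
  rw [← hEd] at hlow
  have hB1p : 0 < Nat.card B₁ := Nat.card_pos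
  have hCp : 0 < Nat.card ↥(E ⊓ centralizer (A0 : Set G)) := Nat.card_pos
  have hA0p : 0 < Nat.card A0 := Nat.card_pos
  have hκ0 : 0 < κ := by
    rcases Nat.eq_zero_or_pos κ with h4 | h4
    · rw [h4, zero_mul] at hκ
      omega
    · exact h4
  have r1 : Nat.card E ≤ κ * Nat.card ↥(E ⊓ centralizer (A0 : Set G)) := by
    have h4 : Nat.card E * Nat.card B₁ ≤ (κ * Nat.card ↥(E ⊓ centralizer (A0 : Set G))) * Nat.card B₁ := by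
      calc Nat.card E * Nat.card B₁ ≤ Nat.card A0 * Nat.card ↥(E ⊓ centralizer (A0 : Set G)) := hcount
        _ = (κ * Nat.card B₁) * Nat.card ↥(E ⊓ centralizer (A0 : Set G)) := by rw [hκ]
        _ = _ := by ring
    exact Nat.le_of_mul_le_mul_right h4 hB1p
  have hκ1 : κ = 1 := by
    have h4 : κ * κ * Nat.card ↥(E ⊓ centralizer (A0 : Set G)) ≤ κ * Nat.card ↥(E ⊓ centralizer (A0 : Set G)) :=
      hlow.trans r1
    have h5 : κ * κ ≤ κ := Nat.le_of_mul_le_mul_right h4 hCp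
    nlinarith
  rw [hκ1, one_mul] at r1 hκ
  have hEc : E ≤ centralizer (A0 : Set G) := by
    have h4 : E ⊓ centralizer (A0 : Set G) = E := Subgroup.eq_of_le_of_card_ge inf_le_left r1
    rw [← h4]
    exact inf_le_right
  -- the end
  obtain ⟨e, he, q, hq, hqe⟩ := H3
  have hqx : q * e * q⁻¹ * e⁻¹ = x := (cE1 q hq.1 e he).resolve_left fun h4 => hqe (comm_iff.1 h4)
  have heE : e ∈ E := hE1E he
  obtain ⟨v, hv, hev⟩ := act e he (fun b hb => mem_centralizer_iff.1 (hEc heE) b hb)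
  obtain ⟨q', hq'⟩ : ∃ q', q' = a * q * a⁻¹ := ⟨_, rfl⟩
  have hq'Q : q' ∈ Q := hq' ▸ haQ q hq.2
  have h5 : q' * (e * v) * q'⁻¹ * (e * v)⁻¹ = x' := by
    rw [← hxa, ← hqx, ← hev, hq']
    group
  have h6 : q' * e * q'⁻¹ * e⁻¹ = x' := by
    rw [← h5]
    have h7 : q' * v * q'⁻¹ = v := by rw [hQV q' hq'Q v hv, mul_inv_cancel_right]
    calc q' * e * q'⁻¹ * e⁻¹ = q' * e * q'⁻¹ * v * v⁻¹ * e⁻¹ := by group
      _ = q' * e * q'⁻¹ * (q' * v * q'⁻¹) * v⁻¹ * e⁻¹ := by rw [h7]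
      _ = _ := by group
  have hrE : x' ∈ E₁ := by
    rw [← h6]
    exact mul_mem (nE1 q' (hQR hq'Q) e he) (inv_mem he)
  obtain ⟨b, hb, hbw⟩ := H1
  apply hbw
  rw [← comm_iff]
  rcases cE1 b hb w₂ (hw hrE) with h7 | h7
  · exact h7
  · rcases cE2 b hb w₂ hw2 with h8 | h8
    · exact h8
    · exact absurd (h7.symm.trans h8) hne

end Cfsg.Agent.Omega.NO3S.TwoA
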