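import Cfsg.Agent.Omega.NO3S.TwoA.Off
import Cfsg.Agent.Omega.NO3S.SN.TwoP.Five

/-!
# LightL, `J(O₂(C_G(Z_J)))` moves `V`: the count (helper411 #25060 (A), helper586 #20800 (4), (5))

Abstract: `D ≤ V ≤ U ≤ O'`, `U` elementary abelian, `A ∈ A(O')` acts on `V` as `⟨a⟩`, `[V, a] = ⟨p⟩`, `p = w₁ w₂`,
`A₀ = A ∩ C(V) ≤ Q ≤ R`, `K` normal in `R`, `[w₁, K] ≤ ⟨x⟩`, `[w₂, K] ≤ ⟨y⟩`, `x, y ∈ D ≤ Z(R)`, `x^a = x p`,
`y^a = y p`, `p ∉ D`; `E_k = D ⟨w_k ^ R⟩`.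

* `Cnt` : this situation;
* **`Cnt.false`** : if `|E_k : C_{E_k / E₁ ∩ E₂}(A₀)| ≥ |A₀ : A₀ ∩ K|` and `Q ∩ K` moves `E₁` and `K` moves `w₂`:
  contradiction.
-/

set_option autoImplicit false
set_option linter.unusedSectionVars false

namespace Cfsg.Agent.Omega.NO3S.TwoA

open Subgroup Cfsg Cfsg.Agent.PLocal.ThompsonJ Cfsg.Agent.ZN Cfsg.Agent.ZN.ChoiceBase
open Cfsg.Agent.PLocal.ElemAbSup
open Cfsg.Agent.Omega.SQ1.Bau (elem_comm elem_sq mem_sup_comm card_sup_comm)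
open Cfsg.Agent.Omega.NO3S.SN.TwoP (Mod D_le_Mod conj_mem_Mod mem_Mod Mod_le Mod_conj qf qf_mul qf_eq_zero comm_prod
  comm_iff count2 split2)

universe u

variable {G : Type u} [Group G] [Finite G]

/-- The situation of the count. -/
structure Cnt (V O' A : Subgroup G) (a p : G) (Q R K D U : Subgroup G) (w₁ w₂ x y : G) : Prop where
  off : Of V O' A a p
  Uel : IsElementaryAbelian 2 U
  UO : U ≤ O'
  VU : V ≤ U
  UR : ∀ r ∈ R, ∀ u ∈ U, r * u * r⁻¹ ∈ U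
  Ua : ∀ u ∈ U, a * u * a⁻¹ ∈ U
  A0Q : A ⊓ centralizer (V : Set G) ≤ Q
  QR : Q ≤ R
  Qa : ∀ q ∈ Q, a * q * a⁻¹ ∈ Q
  QV : Q ≤ centralizer (V : Set G)
  DV : D ≤ V
  Dc : ∀ r ∈ R, ∀ d ∈ D, r * d * r⁻¹ = d
  KR : K ≤ R
  Kn : ∀ r ∈ R, ∀ k ∈ K, r * k * r⁻¹ ∈ K
  w1 : w₁ ∈ V
  w2 : w₂ ∈ V
  xD : x ∈ D
  yD : y ∈ D
  kw1 : ∀ b ∈ K, b * w₁ * b⁻¹ * w₁⁻¹ = 1 ∨ b * w₁ * b⁻¹ * w₁⁻¹ = x
  kw2 : ∀ b ∈ K, b * w₂ * b⁻¹ * w₂⁻¹ = 1 ∨ b * w₂ * b⁻¹ * w₂⁻¹ = y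
  ker : ∀ b ∈ A ⊓ centralizer (V : Set G), (∀ e ∈ Mod D R w₁, b * e = e * b) → b ∈ K
  x1 : x ≠ 1
  y1 : y ≠ 1
  xy : x ≠ y
  p_eq : p = w₁ * w₂
  pD : p ∉ D
  xa : a * x * a⁻¹ = x * p
  ya : a * y * a⁻¹ = y * p

namespace Cnt

variable {V O' A : Subgroup G} {a p : G} {Q R K D U : Subgroup G} {w₁ w₂ x y : G}
  (f : Cnt V O' A a p Q R K D U w₁ w₂ x y)
include f

theorem DU : D ≤ U := f.DV.trans f.VU

theorem Uc {u v : G} (hu : u ∈ U) (hv : v ∈ U) : u * v = v * u := elem_comm f.Uel u hu v hv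

theorem Us {u : G} (hu : u ∈ U) : u * u = 1 := by
  have := elem_sq f.Uel u hu
  rwa [pow_two] at this

theorem Mod_U {w : G} (hw : w ∈ U) : Mod D R w ≤ U := Mod_le f.DU fun r hr => f.UR r hr w hw

theorem Mod_norm {w r e : G} (hr : r ∈ R) (he : e ∈ Mod D R w) : r * e * r⁻¹ ∈ Mod D R w :=
  Mod_conj (fun r hr d hd => by rw [f.Dc r hr d hd]; exact hd) hr he

/-- the commutators with `K` -/
theorem comm_Mod {w x : G} (hw : w ∈ U) (hx : x ∈ D) (hc : ∀ t ∈ K, t * w * t⁻¹ * w⁻¹ = 1 ∨ t * w * t⁻¹ * w⁻¹ = x)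
    {b e : G} (hb : b ∈ K) (he : e ∈ Mod D R w) : b * e * b⁻¹ * e⁻¹ = 1 ∨ b * e * b⁻¹ * e⁻¹ = x := by
  have hxx : x * x = 1 := f.Us (f.DU hx)
  let K' : Subgroup G :=
    { carrier := {e | e ∈ U ∧ ∀ b ∈ K, b * e * b⁻¹ * e⁻¹ = 1 ∨ b * e * b⁻¹ * e⁻¹ = x}
      one_mem' := ⟨one_mem _, fun b _ => Or.inl (by group)⟩
      mul_mem' := by
        rintro e e' ⟨he, h2⟩ ⟨he', h3⟩
        refine ⟨mul_mem he he', fun b hb => ?_⟩
        have h4 : b * e' * b⁻¹ * e'⁻¹ ∈ U :=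
          mul_mem (f.UR b (f.KR hb) e' he') (inv_mem he')
        rw [comm_prod (f.Uc he h4)]
        rcases h2 b hb with h6 | h6 <;> rcases h3 b hb with h7 | h7 <;> rw [h6, h7]
        · left; rw [one_mul]
        · right; rw [one_mul]
        · right; rw [mul_one]
        · left; exact hxx
      inv_mem' := by
        rintro e ⟨he, h2⟩
        refine ⟨inv_mem he, fun b hb => ?_⟩
        have hei : e⁻¹ = e := inv_eq_of_mul_eq_one_left (f.Us he)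
        rw [hei]
        exact h2 b hb }
  have h1 : Mod D R w ≤ K' := by
    refine Mod_le (fun d hd => ⟨f.DU hd, fun b hb => Or.inl ?_⟩) fun r hr => ?_
    · rw [f.Dc b (f.KR hb) d hd, mul_inv_cancel]
    · refine ⟨f.UR r hr w hw, fun b hb => ?_⟩
      have hb' : r⁻¹ * b * r⁻¹⁻¹ ∈ K := f.Kn _ (inv_mem hr) b hb
      have e1 : b * (r * w * r⁻¹) * b⁻¹ * (r * w * r⁻¹)⁻¹ =
          r * ((r⁻¹ * b * r⁻¹⁻¹) * w * (r⁻¹ * b * r⁻¹⁻¹)⁻¹ * w⁻¹) * r⁻¹ := by group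
      rw [e1]
      rcases hc _ hb' with h2 | h2
      · left; rw [h2]; group
      · right; rw [h2, f.Dc r hr x hx]
  exact (h1 he).2 b hb

/-- **The count and the end.** -/
theorem false {F₁ F₂ : Subgroup G} {κ : ℕ}
    (hF1 : ∀ e, e ∈ F₁ ↔ e ∈ Mod D R w₁ ∧ ∀ b ∈ A ⊓ centralizer (V : Set G),
      b * e * b⁻¹ * e⁻¹ ∈ Mod D R w₁ ⊓ Mod D R w₂)
    (hF2 : ∀ e, e ∈ F₂ ↔ e ∈ Mod D R w₂ ∧ ∀ b ∈ A ⊓ centralizer (V : Set G),
      b * e * b⁻¹ * e⁻¹ ∈ Mod D R w₁ ⊓ Mod D R w₂)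
    (hκ : κ * Nat.card ↥((A ⊓ centralizer (V : Set G)) ⊓ K) = Nat.card ↥(A ⊓ centralizer (V : Set G)))
    (k1 : κ * Nat.card F₁ ≤ Nat.card (Mod D R w₁)) (k2 : κ * Nat.card F₂ ≤ Nat.card (Mod D R w₂))
    (H1 : ∃ b ∈ K, b * w₂ ≠ w₂ * b)
    (H3 : ∃ e ∈ Mod D R w₁, ∃ q ∈ Q ⊓ K, q * e ≠ e * q) : False := by
  classical
  set E₁ := Mod D R w₁ with hE₁
  set E₂ := Mod D R w₂ with hE₂
  set A0 := A ⊓ centralizer (V : Set G) with hA0
  set B₁ := A0 ⊓ K with hB₁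
  have hVW : V ≤ U := f.VU
  have hE1W : E₁ ≤ U := f.Mod_U (f.VU f.w1)
  have hE2W : E₂ ≤ U := f.Mod_U (f.VU f.w2)
  set E := V ⊔ (E₁ ⊔ E₂) with hE
  have hEW : E ≤ U := sup_le hVW (sup_le hE1W hE2W)
  have hA0R : A0 ≤ R := f.A0Q.trans f.QR
  have hA0V : ∀ b ∈ A0, ∀ v ∈ V, b * v = v * b := f.off.A0_comm
  have hxx : x * x = 1 := f.Us (f.DU f.xD)
  have hyy : y * y = 1 := f.Us (f.DU f.yD)
  have hxy : x * y = y * x := f.Uc (f.DU f.xD) (f.DU f.yD)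
  have hx1 := f.x1
  have hy1 := f.y1
  have hne := f.xy
  have hpU : p ∈ U := hVW f.off.pV
  have hpp : p * p = 1 := f.Us hpU
  -- commutators
  have cE1 : ∀ b ∈ K, ∀ e ∈ E₁, b * e * b⁻¹ * e⁻¹ = 1 ∨ b * e * b⁻¹ * e⁻¹ = x := fun b hb e he =>
    f.comm_Mod (f.VU f.w1) f.xD f.kw1 hb he
  have cE2 : ∀ b ∈ K, ∀ e ∈ E₂, b * e * b⁻¹ * e⁻¹ = 1 ∨ b * e * b⁻¹ * e⁻¹ = y := fun b hb e he =>
    f.comm_Mod (f.VU f.w2) f.yD f.kw2 hb he
  have hmE : ∀ e ∈ E, ∃ v ∈ V, ∃ e₁ ∈ E₁, ∃ e₂ ∈ E₂, e = v * (e₁ * e₂) := by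
    intro e he
    obtain ⟨v, hv, w, hw, rfl⟩ := mem_sup_comm (fun x hx y hy => f.Uc (hVW hx) (sup_le hE1W hE2W hy)) he
    obtain ⟨e₁, he₁, e₂, he₂, rfl⟩ := mem_sup_comm (fun x hx y hy => f.Uc (hE1W hx) (hE2W hy)) hw
    exact ⟨v, hv, e₁, he₁, e₂, he₂, rfl⟩
  have cprod : ∀ b ∈ R, ∀ e ∈ U, ∀ e' ∈ U,
      b * (e * e') * b⁻¹ * (e * e')⁻¹ = (b * e * b⁻¹ * e⁻¹) * (b * e' * b⁻¹ * e'⁻¹) := by
    intro b hb e he e' he'
    exact comm_prod (f.Uc he (mul_mem (f.UR b hb e' he') (inv_mem he')))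
  have cE : ∀ b ∈ B₁, ∀ e ∈ E, b * e * b⁻¹ * e⁻¹ = 1 ∨ b * e * b⁻¹ * e⁻¹ = x ∨ b * e * b⁻¹ * e⁻¹ = y ∨
      b * e * b⁻¹ * e⁻¹ = x * y := by
    intro b hb e he
    obtain ⟨v, hv, e₁, he₁, e₂, he₂, rfl⟩ := hmE e he
    have hbR := hA0R hb.1
    rw [cprod b hbR v (hVW hv) _ (mul_mem (hE1W he₁) (hE2W he₂)), cprod b hbR e₁ (hE1W he₁) e₂ (hE2W he₂),
      comm_iff.2 (hA0V b hb.1 v hv), one_mul]
    rcases cE1 b hb.2 e₁ he₁ with h4 | h4 <;> rcases cE2 b hb.2 e₂ he₂ with h5 | h5 <;> rw [h4, h5]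
    · left; rw [one_mul]
    · right; right; left; rw [one_mul]
    · right; left; rw [mul_one]
    · right; right; right; rfl
  have hcD : ∀ b ∈ B₁, ∀ e ∈ E, b * e * b⁻¹ * e⁻¹ ∈ D := by
    intro b hb e he
    rcases cE b hb e he with h4 | h4 | h4 | h4 <;> rw [h4]
    · exact one_mem _
    · exact f.xD
    · exact f.yD
    · exact mul_mem f.xD f.yD
  -- `A₀` normalises `E₁`, `E₂`, `E`
  have nE1 : ∀ b ∈ A0, ∀ e ∈ E₁, b * e * b⁻¹ ∈ E₁ := fun b hb e he => f.Mod_norm (hA0R hb) he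
  have nE2 : ∀ b ∈ A0, ∀ e ∈ E₂, b * e * b⁻¹ ∈ E₂ := fun b hb e he => f.Mod_norm (hA0R hb) he
  have hE1E : E₁ ≤ E := le_sup_left.trans le_sup_right
  have hE2E : E₂ ≤ E := le_sup_right.trans le_sup_right
  have hVE : V ≤ E := le_sup_left
  -- centralisers lie in `K`
  have hcO : ∀ b ∈ A0, (∀ e ∈ E, b * e = e * b) → b ∈ B₁ := by
    intro b hb hbe
    exact ⟨hb, f.ker b hb fun e he => hbe e (hE1E he)⟩
  -- the conjugates of `x`, `y`, `x y` by `a`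
  have hxya : a * (x * y) * a⁻¹ = x * y := by
    have e1 : a * (x * y) * a⁻¹ = (a * x * a⁻¹) * (a * y * a⁻¹) := by group
    rw [e1, f.xa, f.ya]
    have c2 : p * y = y * p := f.Uc hpU (f.DU f.yD)
    calc x * p * (y * p) = x * (p * y) * p := by group
      _ = x * y * (p * p) := by rw [c2]; group
      _ = x * y := by rw [hpp, mul_one]
  -- the count
  have hEa : E ⊔ cj a E ≤ U := sup_le hEW (by
      rintro _ ⟨e, he, rfl⟩
      exact f.Ua e (hEW he))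
  have hel : IsElementaryAbelian 2 (E ⊔ cj a E : Subgroup G) := isElementaryAbelian_mono f.Uel hEa
  have nD : ∀ d ∈ D, ∀ e ∈ D, e ≠ d * p := fun d hd e he h0 => f.pD (by
    have h1 : d⁻¹ * e = p := by rw [h0, inv_mul_cancel_left]
    rw [← h1]; exact mul_mem (inv_mem hd) he)
  have hcount := count2 (B := A0) (B₁ := B₁) (E := E) (U := U) (a := a) hEW
    (fun e he => f.Ua e (hEW he)) (fun u hu v hv => f.Uc hu hv)
    (fun b hb => elem_comm f.off.elem a f.off.aA b hb.1) inf_le_left hcO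
    (fun e b => qf x y (b * e * b⁻¹ * e⁻¹))
    (by
      intro e he e' he' b hb
      rw [cprod b (hA0R hb.1) e (hEW he) e' (hEW he')]
      exact qf_mul hxx hyy hxy hx1 hy1 hne (cE b hb e he) (cE b hb e' he'))
    (by
      intro e he b hb b' hb'
      have e1 : (b * b') * e * (b * b')⁻¹ * e⁻¹ = b * (b' * e * b'⁻¹ * e⁻¹) * b⁻¹ * (b * e * b⁻¹ * e⁻¹) := by group
      rw [e1, f.Dc b (hA0R hb.1) _ (hcD b' hb' e he), add_comm]
      exact qf_mul hxx hyy hxy hx1 hy1 hne (cE b' hb' e he) (cE b hb e he))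
    (by
      intro b hb h4
      have h5 : ∀ e ∈ E₁, b * e = e * b := by
        intro e he
        have h6 := qf_eq_zero.1 (h4 e (hE1E he))
        rw [← comm_iff]
        rcases cE1 b hb.2 e he with h7 | h7
        · exact h7
        · exfalso
          rw [h7] at h6
          rcases h6 with h6 | h6
          · exact hx1 h6
          · exact hy1 (left_eq_mul.1 h6)
      have h6 : ∀ e ∈ E₂, b * e = e * b := by
        intro e he
        have h6 := qf_eq_zero.1 (h4 e (hE2E he))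
        rw [← comm_iff]
        rcases cE2 b hb.2 e he with h7 | h7
        · exact h7
        · exfalso
          rw [h7] at h6
          rcases h6 with h6 | h6
          · exact hy1 h6
          · exact hx1 (right_eq_mul.1 h6)
      intro e he
      obtain ⟨v, hv, e₁, he₁, e₂, he₂, rfl⟩ := hmE e he
      have c1 : Commute b v := hA0V b hb.1 v hv
      have c2 : Commute b e₁ := h5 e₁ he₁
      have c3 : Commute b e₂ := h6 e₂ he₂
      exact (c1.mul_right (c2.mul_right c3)).eq)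
    (by
      intro e he e' he' b hb h4
      rw [qf_eq_zero]
      have h5 : b * e * b⁻¹ * e⁻¹ = 1 ∨ b * e * b⁻¹ * e⁻¹ = x * p ∨ b * e * b⁻¹ * e⁻¹ = y * p ∨
          b * e * b⁻¹ * e⁻¹ = x * y := by
        rw [h4]
        rcases cE b hb e' he' with h6 | h6 | h6 | h6 <;> rw [h6]
        · left; group
        · right; left; exact f.xa
        · right; right; left; exact f.ya
        · right; right; right; exact hxya
      rcases h5 with h6 | h6 | h6 | h6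
      · exact Or.inl h6
      · exact absurd h6 (nD x f.xD _ (hcD b hb e he))
      · exact absurd h6 (nD y f.yD _ (hcD b hb e he))
      · exact Or.inr h6)
    (f.off.count0 hel (hVE.trans le_sup_left) (hEa.trans f.UO))
  -- the lower bound
  have hlow := split2 (B := A0) (E₁ := E₁) (E₂ := E₂) (V := V) (U := U) (k := κ)
    (fun u hu v hv => f.Uc hu hv) hVW hE1W hE2W
    (fun v hv => mem_centralizer_iff.2 fun b hb => hA0V b hb v hv) nE1 nE2 hF1 hF2 k1 k2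
  rw [← hE] at hlow
  have hB1p : 0 < Nat.card B₁ := Nat.card_pos
  have hCp : 0 < Nat.card ↥(E ⊓ centralizer (A0 : Set G)) := Nat.card_pos
  have hA0p : 0 < Nat.card A0 := Nat.card_pos
  have hκ0 : 0 < κ := by
    rcases Nat.eq_zero_or_pos κ with h4 | h4
    · rw [h4, zero_mul] at hκ
      omega
    · exact h4
  have r1 : Nat.card E ≤ κ * Nat.card ↥(E ⊓ centralizer (A0 : Set G)) := by
    have h4 : Nat.card E * Nat.card B₁ ≤ (κ * Nat.card ↥(E ⊓ centralizer (A0 : Set G))) * Nat.card B₁ := by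
      calc Nat.card E * Nat.card B₁ ≤ Nat.card A0 * Nat.card ↥(E ⊓ centralizer (A0 : Set G)) := hcount
        _ = (κ * Nat.card B₁) * Nat.card ↥(E ⊓ centralizer (A0 : Set G)) := by rw [hκ]
        _ = _ := by ring
    exact Nat.le_of_mul_le_mul_right h4 hB1p
  have hκ1 : κ = 1 := by
    have h4 : κ * κ * Nat.card ↥(E ⊓ centralizer (A0 : Set G)) ≤ κ * Nat.card ↥(E ⊓ centralizer (A0 : Set G)) :=
      hlow.trans r1
    have h5 : κ * κ ≤ κ := Nat.le_of_mul_le_mul_right h4 hCp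
    nlinarith
  rw [hκ1, one_mul] at r1 hκ
  have hEc : E ≤ centralizer (A0 : Set G) := by
    have h4 : E ⊓ centralizer (A0 : Set G) = E := Subgroup.eq_of_le_of_card_ge inf_le_left r1
    rw [← h4]
    exact inf_le_right
  -- the end
  obtain ⟨e, he, q, hq, hqe⟩ := H3
  have hqx : q * e * q⁻¹ * e⁻¹ = x := (cE1 q hq.2 e he).resolve_left fun h4 => hqe (comm_iff.1 h4)
  have heE : e ∈ E := hE1E he
  have h4 := f.off.act (isElementaryAbelian_mono f.Uel hEW) hVE (hEW.trans f.UO) heE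
    (fun b hb => mem_centralizer_iff.1 (hEc heE) b hb)
  obtain ⟨v, hv, hev⟩ : ∃ v ∈ V, a * e * a⁻¹ = e * v := by
    rcases h4 with h5 | h5
    · exact ⟨1, one_mem _, by rw [mul_one]; exact h5⟩
    · exact ⟨p, f.off.pV, h5⟩
  obtain ⟨q', hq'⟩ : ∃ q', q' = a * q * a⁻¹ := ⟨_, rfl⟩
  have hq'Q : q' ∈ Q := hq' ▸ f.Qa q hq.1
  have h5 : q' * (e * v) * q'⁻¹ * (e * v)⁻¹ = x * p := by
    rw [← f.xa, ← hqx, ← hev, hq']
    group
  have h6 : q' * e * q'⁻¹ * e⁻¹ = x * p := by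
    rw [← h5]
    have h7 : q' * v * q'⁻¹ = v := by
      rw [← mem_centralizer_iff.1 (f.QV hq'Q) v hv, mul_inv_cancel_right]
    calc q' * e * q'⁻¹ * e⁻¹ = q' * e * q'⁻¹ * v * v⁻¹ * e⁻¹ := by group
      _ = q' * e * q'⁻¹ * (q' * v * q'⁻¹) * v⁻¹ * e⁻¹ := by rw [h7]
      _ = _ := by group
  have hrE : x * p ∈ E₁ := by
    rw [← h6]
    exact mul_mem (f.Mod_norm (f.QR hq'Q) he) (inv_mem he)
  have hpE : p ∈ E₁ := by
    have := mul_mem (inv_mem (D_le_Mod D R w₁ f.xD)) hrE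
    rwa [inv_mul_cancel_left] at this
  have hw2E : w₂ ∈ E₁ := by
    have := mul_mem (inv_mem (mem_Mod D R w₁)) hpE
    rwa [f.p_eq, inv_mul_cancel_left] at this
  obtain ⟨b, hb, hbw⟩ := H1
  rcases f.kw2 b hb with h7 | h7
  · exact hbw (comm_iff.1 h7)
  · rcases cE1 b hb w₂ hw2E with h8 | h8
    · rw [h7] at h8; exact hy1 h8
    · rw [h7] at h8; exact hne h8.symm

end Cnt

end Cfsg.Agent.Omega.NO3S.TwoA
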