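import Cfsg.Agent.Omega.NO3S.LightB.Facts

/-!
# LightL (E), `n = 5`: the groups `O_{ab|cd} = O₂(C_G(z_a z_b, z_c z_d))` over `FiveL S P p` (helper740)

`V = zl S P`, `Q = O₂(P)`, `T = Std.T S p`; `OO x y = O₂(C_G(x) ∩ C_G(y))`.

* `cj_OO`, `exists_letters`, **`exists_cj`** : `O_{ab|cd} = O_{01|23}^g` for some `g ∈ P` (so `V^g = V`, `Q^g = Q`)
  which maps `p 0, p 1, p 2, p 3` to `p a, p b, p c, p d`;
* **`OO_le_norm`** : `O_{ab|cd} ≤ N_G(Q)`; **`OO_cent_le`** : `O_{ab|cd} ∩ C_G(V) ≤ Q`; `OO_le_P`;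
* `DD_le_OO`, `DD_le_OO'`, `V_le_OO` : `⟨V ^ C_G(z_a z_b)⟩ ≤ O_{ab|cd}`;
* **`OO_act`** : the elements of `O_{ab|cd}` act on the five points as `1`, `(a b)`, `(c d)` or `(a b)(c d)`.
-/

set_option autoImplicit false
set_option linter.unusedSectionVars false

namespace Cfsg.Agent.Omega.NO3S.TwoA.PairFacts

open Subgroup Cfsg Cfsg.Agent.ZN Cfsg.Agent.Omega.MinPar Cfsg.Agent.Omega.Frame Cfsg.Agent.Omega.FrameNOFF
open Cfsg.Agent.ZN.ChoiceBase (cj cj_mono mem_cj)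
open Cfsg.Agent.Omega.NO3S Cfsg.Agent.Omega.NTwo Cfsg.Agent.Omega.NO3S.Sym.Exit Cfsg.Agent.Omega.NO3S.Sym.Light
open Cfsg.Agent.MinSimple.VModule
open scoped Pointwise

universe u

section general

variable {G : Type u} [Group G]

/-- `O₂(C_G(x) ∩ C_G(y))` -/
abbrev OO [Finite G] (x y : G) : Subgroup G :=
  o2 (centralizer ({x} : Set G) ⊓ centralizer ({y} : Set G))

theorem OO_symm [Finite G] (x y : G) : OO x y = OO y x := by
  rw [OO, OO, inf_comm]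

theorem exists_letters : ∀ a b c d : Fin 5, a ≠ b → a ≠ c → a ≠ d → b ≠ c → b ≠ d → c ≠ d →
    ∃ σ : Equiv.Perm (Fin 5), σ 0 = a ∧ σ 1 = b ∧ σ 2 = c ∧ σ 3 = d := by
  decide +kernel

theorem cj_cent (g x : G) : cj g (centralizer ({x} : Set G)) = centralizer ({g * x * g⁻¹} : Set G) := by
  ext y
  rw [mem_cj, mem_cent, mem_cent]
  constructor
  · intro h
    calc y * (g * x * g⁻¹) * y⁻¹ = g * (g⁻¹ * y * g * x * (g⁻¹ * y * g)⁻¹) * g⁻¹ := by group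
      _ = g * x * g⁻¹ := by rw [h]
  · intro h
    calc g⁻¹ * y * g * x * (g⁻¹ * y * g)⁻¹ = g⁻¹ * (y * (g * x * g⁻¹) * y⁻¹) * g := by group
      _ = x := by rw [h]; group

theorem cj_OO [Finite G] (g x y : G) : cj g (OO x y) = OO (g * x * g⁻¹) (g * y * g⁻¹) := by
  rw [OO, OO, ← ChoiceSit.o2_cj, ChoiceBase.cj_inf, cj_cent, cj_cent]

theorem conj_eq_cj (g : G) (A : Subgroup G) : MulAut.conj g • A = cj g A := rfl

end general

section five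

variable {G : Type u} [Group G] [Finite G] {S : Sylow 2 G} {P : Subgroup G} {p : Fin 5 → G}

theorem cj_Q {g : G} (hg : g ∈ P) : cj g (o2 P) = o2 P :=
  ChoiceBase.cj_eq_of_mem_normalizer (le_normalizer_o2 P hg)

theorem cj_V {g : G} (hg : g ∈ P) : cj g (zl (S : Subgroup G) P) = zl (S : Subgroup G) P := conj_V hg

theorem cS_eq (h : Five S P p) : (S : Subgroup G) ⊓ centralizer (zl (S : Subgroup G) P : Set G) = o2 P :=
  h.star.inf_centralizer S h.ctx.char2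

theorem Q_le (h : Five S P p) : o2 P ≤ centralizer (zl (S : Subgroup G) P : Set G) := by
  rw [← cS_eq h]; exact inf_le_right

theorem Q_le_T (h : Five S P p) : o2 P ≤ Std.T (S : Subgroup G) p := by
  intro x hx
  rw [← cS_eq h] at hx
  exact ⟨hx.1, mem_cent.2 (comm_iff.2 (mem_centralizer_iff.1 hx.2 _ h.n_mem).symm)⟩

end five

section light

variable {G : Type u} [Group G] [Finite G] {S : Sylow 2 G} {P : Subgroup G} {p : Fin 5 → G} (h : FiveL S P p)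
include h

/-- `O₂(D) ≤ T` -/
theorem OO_le_T : OO (nn p) (aa p) ≤ Std.T (S : Subgroup G) p := ChoiceSit.o2_le_syl (LightB.sylD h)

/-- **`O_{ab|cd} = O_{01|23}^g` with `g ∈ P`** -/
theorem exists_cj {a b c d : Fin 5} (hab : a ≠ b) (hac : a ≠ c) (had : a ≠ d) (hbc : b ≠ c) (hbd : b ≠ d)
    (hcd : c ≠ d) : ∃ g ∈ P, ∃ σ : Equiv.Perm (Fin 5), (∀ i, g * p i * g⁻¹ = p (σ i)) ∧
      (σ 0 = a ∧ σ 1 = b ∧ σ 2 = c ∧ σ 3 = d) ∧
      OO (p a * p b) (p c * p d) = cj g (OO (nn p) (aa p)) ∧ cj g (o2 P) = o2 P ∧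
      cj g (zl (S : Subgroup G) P) = zl (S : Subgroup G) P := by
  obtain ⟨σ, e0, e1, e2, e3⟩ := exists_letters a b c d hab hac had hbc hbd hcd
  obtain ⟨g, hg, hσ⟩ := h.std.full σ
  refine ⟨g, hg, σ, hσ, ⟨e0, e1, e2, e3⟩, ?_, cj_Q hg, cj_V hg⟩
  rw [cj_OO, nn, aa, cm, cm, hσ, hσ, hσ, hσ, e0, e1, e2, e3]

theorem OO_le_P {a b c d : Fin 5} (hab : a ≠ b) (hac : a ≠ c) (had : a ≠ d) (hbc : b ≠ c) (hbd : b ≠ d)
    (hcd : c ≠ d) : OO (p a * p b) (p c * p d) ≤ P := by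
  obtain ⟨g, hg, -, -, -, e, -, -⟩ := exists_cj h hab hac had hbc hbd hcd
  rw [e]
  intro x hx
  have h1 := h.std.le (Std.T_le (OO_le_T h (mem_cj.1 hx)))
  have h2 := mul_mem (mul_mem hg h1) (inv_mem hg)
  have h3 : g * (g⁻¹ * x * g) * g⁻¹ = x := by group
  rwa [h3] at h2

/-- **`O_{ab|cd}` normalises `Q`** -/
theorem OO_le_norm {a b c d : Fin 5} (hab : a ≠ b) (hac : a ≠ c) (had : a ≠ d) (hbc : b ≠ c) (hbd : b ≠ d)
    (hcd : c ≠ d) : OO (p a * p b) (p c * p d) ≤ normalizer (o2 P : Set G) :=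
  (OO_le_P h hab hac had hbc hbd hcd).trans (le_normalizer_o2 P)

/-- `O_{ab|cd}` normalises `V` -/
theorem OO_le_normV {a b c d : Fin 5} (hab : a ≠ b) (hac : a ≠ c) (had : a ≠ d) (hbc : b ≠ c) (hbd : b ≠ d)
    (hcd : c ≠ d) : OO (p a * p b) (p c * p d) ≤ normalizer (zl (S : Subgroup G) P : Set G) :=
  (OO_le_P h hab hac had hbc hbd hcd).trans (le_normalizer_zl _ _)

/-- **`O_{ab|cd} ∩ C_G(V) ≤ Q`** -/
theorem OO_cent_le {a b c d : Fin 5} (hab : a ≠ b) (hac : a ≠ c) (had : a ≠ d) (hbc : b ≠ c) (hbd : b ≠ d)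
    (hcd : c ≠ d) : OO (p a * p b) (p c * p d) ⊓ centralizer (zl (S : Subgroup G) P : Set G) ≤ o2 P := by
  obtain ⟨g, hg, -, -, -, e, eQ, eV⟩ := exists_cj h hab hac had hbc hbd hcd
  rw [e, ← eV, ← ChoiceBase.cj_centralizer, ← ChoiceBase.cj_inf, ← eQ]
  refine cj_mono g ?_
  rw [← cS_eq h.toFive]
  exact le_inf (inf_le_left.trans ((OO_le_T h).trans Std.T_le)) inf_le_right

/-- `⟨V ^ C_G(z_a z_b)⟩ ≤ O_{ab|cd}` -/
theorem DD_le_OO {a b c d : Fin 5} (hab : a ≠ b) (hac : a ≠ c) (had : a ≠ d) (hbc : b ≠ c) (hbd : b ≠ d)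
    (hcd : c ≠ d) : DD (zl (S : Subgroup G) P) (p a * p b) ≤ OO (p a * p b) (p c * p d) := by
  obtain ⟨g, hg, σ, hσ, ⟨e0, e1, e2, e3⟩, e, eQ, eV⟩ := exists_cj h hab hac had hbc hbd hcd
  have h1 : cj g (DD (zl (S : Subgroup G) P) (nn p)) = DD (zl (S : Subgroup G) P) (p a * p b) := by
    rw [← conj_eq_cj, conj_DD, conj_eq_cj, eV, nn, cm, hσ, hσ, e0, e1]
  rw [e, ← h1]
  exact cj_mono g (LightB.DD_le_o2D h)

/-- `⟨V ^ C_G(z_c z_d)⟩ ≤ O_{ab|cd}` -/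
theorem DD_le_OO' {a b c d : Fin 5} (hab : a ≠ b) (hac : a ≠ c) (had : a ≠ d) (hbc : b ≠ c) (hbd : b ≠ d)
    (hcd : c ≠ d) : DD (zl (S : Subgroup G) P) (p c * p d) ≤ OO (p a * p b) (p c * p d) := by
  rw [OO_symm]
  exact DD_le_OO h hcd hac.symm hbc.symm had.symm hbd.symm hab

/-- `V ≤ O_{ab|cd}` -/
theorem V_le_OO {a b c d : Fin 5} (hab : a ≠ b) (hac : a ≠ c) (had : a ≠ d) (hbc : b ≠ c) (hbd : b ≠ d)
    (hcd : c ≠ d) : zl (S : Subgroup G) P ≤ OO (p a * p b) (p c * p d) :=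
  le_DD.trans (DD_le_OO h hab hac had hbc hbd hcd)

omit h in
theorem perm_cases : ∀ a b c d : Fin 5, a ≠ b → a ≠ c → a ≠ d → b ≠ c → b ≠ d → c ≠ d →
    ∀ τ : Equiv.Perm (Fin 5), ((τ a = a ∧ τ b = b) ∨ (τ a = b ∧ τ b = a)) → ((τ c = c ∧ τ d = d) ∨ (τ c = d ∧ τ d = c)) →
    τ = 1 ∨ τ = Equiv.swap a b ∨ τ = Equiv.swap c d ∨ τ = Equiv.swap a b * Equiv.swap c d := by
  decide +kernel

/-- **The action of `O_{ab|cd}` on the five points.** -/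
theorem OO_act {a b c d : Fin 5} (hab : a ≠ b) (hac : a ≠ c) (had : a ≠ d) (hbc : b ≠ c) (hbd : b ≠ d)
    (hcd : c ≠ d) {x : G} (hx : x ∈ OO (p a * p b) (p c * p d)) : ∃ τ : Equiv.Perm (Fin 5),
      (∀ i, x * p i * x⁻¹ = p (τ i)) ∧
      (τ = 1 ∨ τ = Equiv.swap a b ∨ τ = Equiv.swap c d ∨ τ = Equiv.swap a b * Equiv.swap c d) := by
  obtain ⟨τ, hτ⟩ := h.std.perm x (OO_le_P h hab hac had hbc hbd hcd hx)
  refine ⟨τ, hτ, perm_cases a b c d hab hac had hbc hbd hcd τ ?_ ?_⟩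
  · have h1 := mem_cent.1 (o2_le _ hx).1
    rw [cm, hτ, hτ] at h1
    exact h.std.pair_inj (fun e => hab (τ.injective e)) hab h1
  · have h1 := mem_cent.1 (o2_le _ hx).2
    rw [cm, hτ, hτ] at h1
    exact h.std.pair_inj (fun e => hcd (τ.injective e)) hcd h1

end light

end Cfsg.Agent.Omega.NO3S.TwoA.PairFacts
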