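import Cfsg.Agent.Omega.NO3S.TwoA.Mem
import Cfsg.Agent.Omega.NO3S.TwoA.PairFacts
import Cfsg.Agent.Omega.NO3S.LightFive.OneP

/-!
# LightL (E), `n = 5`: the members `Memb` of LEMMA (1'U) over `FiveL S P p`

* `lt` : the letters `z = p ∘ rot` (`z 0 = p 4`) satisfy `Lt z P`;
* **`membs`** : if some `A ∈ A(O₂(C_G(p 0 p 1, p 2 p 3)))` moves `V`, then for all distinct `a b c d` there are
  `A ∈ A(O_{ab|cd})` and `g ∈ A` inducing `(a b)` with `OneP.Memb O_{ab|cd} V ⟨V^C_G(p c p d)⟩ A Q g`.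
-/

set_option autoImplicit false
set_option linter.unusedSectionVars false

namespace Cfsg.Agent.Omega.NO3S.TwoA.MembFive

open Subgroup Cfsg Cfsg.Agent.ZN Cfsg.Agent.Omega.MinPar Cfsg.Agent.Omega.Frame Cfsg.Agent.Omega.FrameNOFF
open Cfsg.Agent.PLocal.ThompsonJ Cfsg.Agent.PLocal.ElemAbSup
open Cfsg.Agent.ZN.ChoiceBase (cj cj_mono mem_cj AA isElementaryAbelian_cj)
open Cfsg.Agent.Omega.NO3S Cfsg.Agent.Omega.NTwo Cfsg.Agent.Omega.NO3S.Sym.Exit Cfsg.Agent.Omega.NO3S.Sym.Light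
open Cfsg.Agent.Omega.NO3S.TwoA.PairFacts
open Cfsg.Agent.Omega.NO3S.LightFive.OneP (Memb)
open Cfsg.Agent.MinSimple.VModule
open scoped Pointwise

universe u

/-- `0 1 2 3 4 ↦ 4 0 1 2 3` -/
noncomputable def rot : Equiv.Perm (Fin 5) := Equiv.ofBijective ![4, 0, 1, 2, 3] (by decide)

theorem rot_app (i : Fin 5) : rot i = ![4, 0, 1, 2, 3] i := rfl

variable {G : Type u} [Group G]

theorem Dd_eq (z : Fin 5 → G) (a b c d : Fin 5) :
    Dd z a b c d = centralizer ({z a * z b} : Set G) ⊓ centralizer ({z c * z d} : Set G) := by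
  ext x
  simp only [Dd, mem_inf, mem_centralizer_iff, Set.mem_insert_iff, Set.mem_singleton_iff, forall_eq_or_imp, forall_eq]

variable [Finite G] {S : Sylow 2 G} {P : Subgroup G} {p : Fin 5 → G} (h : FiveL S P p)
include h

theorem lt : Lt (p ∘ rot) P where
  sq a := h.std.sq _
  comm a b := h.std.comm _ _
  prod := by
    have h1 := h.std.prod
    change p 4 = p 0 * p 1 * p 2 * p 3
    rw [← h1]; group
  inj := h.std.inj.comp rot.injective
  ne1 a := h.std.ne _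
  act g hg := by
    obtain ⟨σ, hσ⟩ := h.std.perm g hg
    refine ⟨rot⁻¹ * σ * rot, fun a => ?_⟩
    have e : rot ((rot⁻¹ * σ * rot) a) = σ (rot a) := by simp [Equiv.Perm.mul_apply]
    change g * p (rot a) * g⁻¹ = p (rot ((rot⁻¹ * σ * rot) a))
    rw [e, hσ]
  full σ := by
    obtain ⟨g, hg, hσ⟩ := h.std.full (rot * σ * rot⁻¹)
    refine ⟨g, hg, fun a => ?_⟩
    have e : (rot * σ * rot⁻¹) (rot a) = rot (σ a) := by simp [Equiv.Perm.mul_apply]
    change g * p (rot a) * g⁻¹ = p (rot (σ a))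
    rw [hσ, e]
  VO a := by
    rw [Dd_eq]
    exact V_le_OO h (a := 0) (b := 1) (c := 2) (d := 3) (by decide) (by decide) (by decide) (by decide) (by decide)
      (by decide) (h.p_mem _)
  OL := by
    rw [Dd_eq]
    exact OO_le_P h (a := 0) (b := 1) (c := 2) (d := 3) (by decide) (by decide) (by decide) (by decide) (by decide)
      (by decide)

/-- `⟨V^C_G(p c p d)⟩` is elementary abelian. -/
theorem DD_el {c d : Fin 5} (hcd : c ≠ d) : IsElementaryAbelian 2 (DD (zl (S : Subgroup G) P) (p c * p d)) := by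
  obtain ⟨a, b, hca, hcb, hda, hdb, hab⟩ : ∃ a b : Fin 5, c ≠ a ∧ c ≠ b ∧ d ≠ a ∧ d ≠ b ∧ a ≠ b := by
    revert c d; decide
  obtain ⟨g, hg, σ, hσ, ⟨e0, e1, e2, e3⟩, e, eQ, eV⟩ := exists_cj h hcd hca hcb hda hdb hab
  have h1 : cj g (DD (zl (S : Subgroup G) P) (nn p)) = DD (zl (S : Subgroup G) P) (p c * p d) := by
    rw [← conj_eq_cj, conj_DD, conj_eq_cj, eV, nn, cm, hσ, hσ, e0, e1]
  rw [← h1]
  exact isElementaryAbelian_cj g (LightB.DD_el h)

/-- **The members.** -/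
theorem membs {A₀ : Subgroup G} (hA₀ : A₀ ∈ AA (OO (nn p) (aa p)))
    (hm : ¬ A₀ ≤ centralizer (zl (S : Subgroup G) P : Set G)) {a b c d : Fin 5} (hab : a ≠ b) (hac : a ≠ c)
    (had : a ≠ d) (hbc : b ≠ c) (hbd : b ≠ d) (hcd : c ≠ d) :
    ∃ A g, Memb (OO (p a * p b) (p c * p d)) (zl (S : Subgroup G) P) (DD (zl (S : Subgroup G) P) (p c * p d)) A
      (o2 P) g ∧ ∀ i, g * p i * g⁻¹ = p (Equiv.swap a b i) := by
  have hl := lt h
  have e0 : o2 (Dd (p ∘ rot) 1 2 3 4) = OO (nn p) (aa p) := by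
    rw [Dd_eq]; rfl
  have hm' : ¬ A₀ ≤ centralizer (Set.range (p ∘ rot)) := by
    intro h0
    apply hm
    intro x hx
    rw [h.gen, centralizer_closure]
    rw [mem_centralizer_iff]
    rintro _ ⟨i, rfl⟩
    have h1 := mem_centralizer_iff.1 (h0 hx) (p i) ⟨rot⁻¹ i, by simp⟩
    exact h1
  obtain ⟨A, hA, hs⟩ := hl.mem (A := A₀) (by rw [e0]; exact hA₀) hm' (a := rot⁻¹ a) (b := rot⁻¹ b) (c := rot⁻¹ c)
    (d := rot⁻¹ d) (fun e => hab (rot⁻¹.injective e)) (fun e => hac (rot⁻¹.injective e))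
    (fun e => hbc (rot⁻¹.injective e)) (fun e => had (rot⁻¹.injective e)) (fun e => hbd (rot⁻¹.injective e))
    (fun e => hcd (rot⁻¹.injective e))
  have er : ∀ i, rot (rot⁻¹ i) = i := fun i => by simp
  have e1 : o2 (Dd (p ∘ rot) (rot⁻¹ a) (rot⁻¹ b) (rot⁻¹ c) (rot⁻¹ d)) = OO (p a * p b) (p c * p d) := by
    rw [Dd_eq]
    simp only [Function.comp_apply, er]
  rw [e1] at hA
  have hact : ∀ g : G, (∀ i, g * (p ∘ rot) i * g⁻¹ = (p ∘ rot) (Equiv.swap (rot⁻¹ a) (rot⁻¹ b) i)) →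
      ∀ i, g * p i * g⁻¹ = p (Equiv.swap a b i) := by
    intro g hg i
    have h1 := hg (rot⁻¹ i)
    simp only [Function.comp_apply, er] at h1
    rw [h1]
    congr 1
    rw [Equiv.swap_apply_apply]
    simp [Equiv.Perm.mul_apply]
  obtain ⟨g, hg, hgs⟩ := hs.2
  have hga := hact g hgs
  have key : ∀ b : G, (∀ k, b * p k = p k * b) → ∀ v ∈ zl (S : Subgroup G) P, b * v = v * b := by
    intro b hb v hv
    rw [h.gen] at hv
    have h1 : closure (Set.range p) ≤ centralizer ({b} : Set G) := by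
      rw [closure_le]
      rintro _ ⟨k, rfl⟩
      exact mem_centralizer_singleton_iff.2 (hb k).symm
    exact (mem_centralizer_singleton_iff.1 (h1 hv)).symm
  have hW := DD_el h hcd
  have hVW : zl (S : Subgroup G) P ≤ DD (zl (S : Subgroup G) P) (p c * p d) := le_DD
  refine ⟨A, g, ⟨hA, isElementaryAbelian_mono hW hVW, hW, hVW, DD_le_OO' h hab hac had hbc hbd hcd, hg, ?_, ?_, ?_,
    ?_, ?_⟩, hga⟩
  · intro v hv
    exact (mem_normalizer_iff.1 (OO_le_normV h hab hac had hbc hbd hcd (hA.2.1 hg)) v).1 hv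
  · intro b' hb'
    rcases hs.1 b' hb' with h1 | h1
    · left
      refine key b' fun k => ?_
      have := h1 (rot⁻¹ k)
      simpa [er] using this
    · right
      have h2 := hact b' h1
      have h3 : ∀ v ∈ zl (S : Subgroup G) P, g⁻¹ * b' * v = v * (g⁻¹ * b') := by
        refine key _ fun k => ?_
        have e3 : b' * p k * b'⁻¹ = g * p k * g⁻¹ := (h2 k).trans (hga k).symm
        calc g⁻¹ * b' * p k = g⁻¹ * (b' * p k * b'⁻¹) * b' := by group
          _ = g⁻¹ * (g * p k * g⁻¹) * b' := by rw [e3]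
          _ = p k * (g⁻¹ * b') := by group
      intro v hv
      calc b' * v * b'⁻¹ = g * (g⁻¹ * b' * v) * b'⁻¹ := by group
        _ = g * (v * (g⁻¹ * b')) * b'⁻¹ := by rw [h3 v hv]
        _ = g * v * g⁻¹ := by group
  · refine ⟨p a, h.p_mem a, fun e => ?_⟩
    have h1 := hga a
    rw [e, mul_inv_cancel_right, Equiv.swap_apply_left] at h1
    exact hab (h.std.inj h1)
  · intro b' hb' hc
    refine OO_cent_le h hab hac had hbc hbd hcd ⟨hA.2.1 hb', ?_⟩
    exact mem_centralizer_iff.2 fun v hv => (hc v hv).symm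
  · intro q hq
    exact (mem_normalizer_iff.1 (OO_le_norm h hab hac had hbc hbd hcd (hA.2.1 hg)) q).1 hq

end Cfsg.Agent.Omega.NO3S.TwoA.MembFive
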