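import Cfsg.Agent.Omega.NO3S.TwoA.Cnt
import Cfsg.Agent.Omega.NO3S.SN.TwoP.NoOver
import Cfsg.Agent.Omega.NO3S.SN.TwoP.FiveOut

/-!
# (A) of helper411 #25060: the `R`-modules `D⟨z_1 ^ R⟩`, `D⟨z_3 ^ R⟩`

`x = z_1 z_2`, `y = z_3 z_4`, `T ∈ Syl₂(R)`, `R ≤ C_G(x, y)` minimal with `T ≤ R ≰ Ls`; `one` is (1').
-/

set_option autoImplicit false
set_option linter.unusedSectionVars false

namespace Cfsg.Agent.Omega.NO3S.TwoA

open Subgroup Cfsg Cfsg.Agent.PLocal.ThompsonJ Cfsg.Agent.ZN Cfsg.Agent.ZN.ChoiceBase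
open Cfsg.Agent.ZN.ChoiceSit Cfsg.Agent.PLocal.ElemAbSup
open Cfsg.Agent.Omega.SQ1.Bau (mem_AA_of_comm elem_comm elem_sq mem_sup_comm card_sup_comm)
open Cfsg.Agent.Omega.NO3S.SN.TwoP (comm_prod comm_iff noOver norm_of Mod D_le_Mod conj_mem_Mod mem_Mod Mod_le
  Mod_conj oddGen_sup relIndex_mul_card')
open Cfsg.Agent.MinSimple.MinParabolic (IsMinPar)
open Cfsg.Agent.MinSimple.VModule (oddGen oddGen_le mem_oddGen le_normalizer_oddGen oddGen_le_of_sup oddGen_def)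

universe u

variable {G : Type u} [Group G]

/-- **The frame of (A).** -/
structure Fr (z : Fin 5 → G) (Ls T R U : Subgroup G) : Prop where
  sq : ∀ a, z a * z a = 1
  comm : ∀ a b, z a * z b = z b * z a
  prod : z 0 = z 1 * z 2 * z 3 * z 4
  inj : Function.Injective z
  ne1 : ∀ a, z a ≠ 1
  /-- `T` acts on the letters -/
  act : ∀ g ∈ T, ∃ σ : Equiv.Perm (Fin 5), ∀ a, g * z a * g⁻¹ = z (σ a)
  Rx : ∀ r ∈ R, r * (z 1 * z 2) = z 1 * z 2 * r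
  Ry : ∀ r ∈ R, r * (z 3 * z 4) = z 3 * z 4 * r
  syl : Syl T R
  nR : ¬ R ≤ Ls
  min : ∀ K : Subgroup G, T ≤ K → K < R → K ≤ Ls
  /-- `N_R(T) ≤ Ls` -/
  NT : R ⊓ normalizer (T : Set G) ≤ Ls
  X12 : centralizer {z 0, z 3, z 4} ≤ Ls
  X34 : centralizer {z 0, z 1, z 2} ≤ Ls
  el : IsElementaryAbelian 2 U
  VU : ∀ a, z a ∈ U
  Un : ∀ r, r * z 0 = z 0 * r → ∀ u ∈ U, r * u * r⁻¹ ∈ U
  /-- (1') -/
  one : ∀ M : Subgroup G, M ≤ U → (∀ r ∈ R, ∀ e ∈ M, r * e * r⁻¹ ∈ M) → (∀ e ∈ M, ∀ k ∈ o2 R, k * e = e * k) →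
    ∀ r ∈ oddGen R, ∀ e ∈ M, r * e = e * r

namespace Fr

variable {z : Fin 5 → G} {Ls T R U : Subgroup G} (f : Fr z Ls T R U)
include f

theorem Uc : ∀ u ∈ U, ∀ v ∈ U, u * v = v * u := elem_comm f.el

theorem Us : ∀ u ∈ U, u * u = 1 := fun u hu => by
  have := elem_sq f.el u hu
  rwa [pow_two] at this

/-- `z_i z_j = z_p z_q` for two letters each: `i ∈ {p, q}`. -/
theorem pair {i j p q : Fin 5} (hij : i ≠ j) (hpq : p ≠ q) (h : z i * z j = z p * z q) : i = p ∨ i = q := by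
  by_contra hcon
  push Not at hcon
  obtain ⟨hip, hiq⟩ := hcon
  have inv : ∀ a, (z a)⁻¹ = z a := fun a => inv_eq_of_mul_eq_one_left (f.sq a)
  by_cases hjp : j = p
  · subst hjp
    rw [f.comm i j] at h
    exact hiq (f.inj (mul_left_cancel h))
  by_cases hjq : j = q
  · subst hjq
    exact hip (f.inj (mul_right_cancel h))
  -- four letters: the fifth is trivial
  obtain ⟨σ, h0, h1, h2, h3⟩ : ∃ σ : Equiv.Perm (Fin 5), σ 0 = i ∧ σ 1 = j ∧ σ 2 = p ∧ σ 3 = q := by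
    have key : ∀ i j p q : Fin 5, i ≠ j → p ≠ q → i ≠ p → i ≠ q → j ≠ p → j ≠ q →
        ∃ k : Fin 5, Function.Bijective ![i, j, p, q, k] := by decide
    obtain ⟨k, hk⟩ := key i j p q hij hpq hip hiq hjp hjq
    exact ⟨Equiv.ofBijective _ hk, rfl, rfl, rfl, rfl⟩
  let _ : CommGroup U := { (inferInstance : Group U) with mul_comm := fun a b => Subtype.ext (f.Uc a a.2 b b.2) }
  let w : Fin 5 → U := fun a => ⟨z a, f.VU a⟩
  have hw : ∏ a, w a = 1 := by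
    rw [Fin.prod_univ_five]
    apply Subtype.ext
    change z 0 * z 1 * z 2 * z 3 * z 4 = 1
    rw [mul_assoc (z 0), mul_assoc (z 0), mul_assoc (z 0), ← f.prod]
    exact f.sq 0
  have hw2 := Equiv.prod_comp σ w
  rw [hw, Fin.prod_univ_five, h0, h1, h2, h3] at hw2
  have h4 := congrArg (Subtype.val) hw2
  change z i * z j * z p * z q * z (σ 4) = 1 at h4
  rw [mul_assoc (z i * z j), ← h] at h4
  have h5 : z i * z j * (z i * z j) = 1 := by
    calc z i * z j * (z i * z j) = z i * (z j * z i) * z j := by group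
      _ = z i * (z i * z j) * z j := by rw [f.comm i j]
      _ = (z i * z i) * (z j * z j) := by group
      _ = 1 := by rw [f.sq, f.sq, one_mul]
  rw [h5, one_mul] at h4
  exact f.ne1 _ h4

theorem mul_ne {i j : Fin 5} (hij : i ≠ j) : z i * z j ≠ 1 := fun h => hij (f.inj (by
  calc z i = z i * (z j * z j) := by rw [f.sq, mul_one]
    _ = z i * z j * z j := by group
    _ = z j := by rw [h, one_mul]))

theorem TR : T ≤ R := f.syl.1

theorem T_le : T ≤ Ls := (le_inf f.TR le_normalizer).trans f.NT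

theorem xy : z 0 = (z 1 * z 2) * (z 3 * z 4) := by rw [f.prod]; group

theorem R0 {r : G} (hr : r ∈ R) : r * z 0 = z 0 * r := by
  have c1 : Commute r (z 1 * z 2) := f.Rx r hr
  have c2 : Commute r (z 3 * z 4) := f.Ry r hr
  rw [f.xy]
  exact (c1.mul_right c2).eq

theorem Rn {r : G} (hr : r ∈ R) : ∀ u ∈ U, r * u * r⁻¹ ∈ U := f.Un r (f.R0 hr)

/-- `D = ⟨x, y⟩` -/
theorem D_cent {r : G} (hr : r ∈ R) {d : G} (hd : d ∈ closure {z 1 * z 2, z 3 * z 4}) : r * d * r⁻¹ = d := by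
  have h1 : closure {z 1 * z 2, z 3 * z 4} ≤ centralizer ({r} : Set G) := by
    rw [closure_le]
    rintro _ (rfl | rfl)
    · exact mem_centralizer_singleton_iff.2 (f.Rx r hr).symm
    · exact mem_centralizer_singleton_iff.2 (f.Ry r hr).symm
  rw [← mem_centralizer_singleton_iff.1 (h1 hd), mul_inv_cancel_right]

theorem D_U : closure {z 1 * z 2, z 3 * z 4} ≤ U := by
  rw [closure_le]
  rintro _ (rfl | rfl)
  · exact mul_mem (f.VU 1) (f.VU 2)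
  · exact mul_mem (f.VU 3) (f.VU 4)

theorem x_sq : z 1 * z 2 * (z 1 * z 2) = 1 := f.Us _ (mul_mem (f.VU 1) (f.VU 2))

theorem y_sq : z 3 * z 4 * (z 3 * z 4) = 1 := f.Us _ (mul_mem (f.VU 3) (f.VU 4))

/-- the `R`-module of `w` -/
theorem Mod_norm {w r e : G} (hr : r ∈ R) (he : e ∈ Mod (closure {z 1 * z 2, z 3 * z 4}) R w) :
    r * e * r⁻¹ ∈ Mod (closure {z 1 * z 2, z 3 * z 4}) R w :=
  Mod_conj (fun _ hr _ hd => by rw [f.D_cent hr hd]; exact hd) hr he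

theorem Mod_U {w : G} (hw : w ∈ U) : Mod (closure {z 1 * z 2, z 3 * z 4}) R w ≤ U :=
  Mod_le f.D_U fun _ hr => f.Rn hr _ hw

/-- the letters moved by `T` -/
theorem perm_x {t : G} (ht : t ∈ T) {σ : Equiv.Perm (Fin 5)} (hσ : ∀ a, t * z a * t⁻¹ = z (σ a)) :
    σ 1 = 1 ∨ σ 1 = 2 := by
  refine f.pair (i := σ 1) (j := σ 2) (fun h => by simpa using σ.injective h) (by decide) ?_
  rw [← hσ 1, ← hσ 2]
  have h1 := f.Rx t (f.TR ht)
  calc t * z 1 * t⁻¹ * (t * z 2 * t⁻¹) = t * (z 1 * z 2) * t⁻¹ := by group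
    _ = z 1 * z 2 := by rw [h1, mul_inv_cancel_right]

theorem perm_y {t : G} (ht : t ∈ T) {σ : Equiv.Perm (Fin 5)} (hσ : ∀ a, t * z a * t⁻¹ = z (σ a)) :
    σ 3 = 3 ∨ σ 3 = 4 := by
  refine f.pair (i := σ 3) (j := σ 4) (fun h => by simpa using σ.injective h) (by decide) ?_
  rw [← hσ 3, ← hσ 4]
  have h1 := f.Ry t (f.TR ht)
  calc t * z 3 * t⁻¹ * (t * z 4 * t⁻¹) = t * (z 3 * z 4) * t⁻¹ := by group
    _ = z 3 * z 4 := by rw [h1, mul_inv_cancel_right]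

theorem comm_z1 {t : G} (ht : t ∈ T) : t * z 1 * t⁻¹ * (z 1)⁻¹ = 1 ∨ t * z 1 * t⁻¹ * (z 1)⁻¹ = z 1 * z 2 := by
  obtain ⟨σ, hσ⟩ := f.act t ht
  have inv : (z 1)⁻¹ = z 1 := inv_eq_of_mul_eq_one_left (f.sq 1)
  rcases f.perm_x ht hσ with h | h
  · left; rw [hσ, h, mul_inv_cancel]
  · right; rw [hσ, h, inv, f.comm]

theorem comm_z3 {t : G} (ht : t ∈ T) : t * z 3 * t⁻¹ * (z 3)⁻¹ = 1 ∨ t * z 3 * t⁻¹ * (z 3)⁻¹ = z 3 * z 4 := by
  obtain ⟨σ, hσ⟩ := f.act t ht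
  have inv : (z 3)⁻¹ = z 3 := inv_eq_of_mul_eq_one_left (f.sq 3)
  rcases f.perm_y ht hσ with h | h
  · left; rw [hσ, h, mul_inv_cancel]
  · right; rw [hσ, h, inv, f.comm]

variable [Finite G]

theorem T2 : IsPGroup 2 T := f.syl.2.1

theorem OT : o2 R ≤ T := ChoiceSit.o2_le_syl f.syl

theorem on {r k : G} (hr : r ∈ R) (hk : k ∈ o2 R) : r * k * r⁻¹ ∈ o2 R :=
  (mem_normalizer_iff.1 (MinSimple.VModule.le_normalizer_o2 R hr) k).1 hk

theorem on' {r k : G} (hr : r ∈ R) (hk : k ∈ o2 R) : r⁻¹ * k * r ∈ o2 R := by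
  have := f.on (inv_mem hr) hk
  rwa [inv_inv] at this

theorem isMinPar : IsMinPar T R where
  le := f.TR
  not_le h0 := f.nR ((le_inf le_rfl h0).trans f.NT)
  exists_max := by
    refine ⟨R ⊓ Ls, lt_of_le_of_ne inf_le_left fun h0 => f.nR (inf_eq_left.1 h0), fun K hK hKR => ?_⟩
    exact le_inf hKR.le (f.min K hK hKR)

theorem sup_or {N₀ : Subgroup G} (hN₀ : N₀ ≤ R) (hn : R ≤ normalizer (N₀ : Set G)) :
    N₀ ⊔ T = R ∨ T ⊓ N₀ ≤ o2 R := by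
  have hfact : Fact (Nat.Prime 2) := ⟨Nat.prime_two⟩
  exact f.isMinPar.sup_eq_or_inf_le f.T2 (syl_not_dvd f.syl) hN₀ hn

/-- `T ≰ O₂(R)` -/
theorem nT : ¬ T ≤ o2 R := fun h0 => f.nR ((le_inf le_rfl (by
  have : T = o2 R := le_antisymm h0 f.OT
  rw [this]
  exact MinSimple.VModule.le_normalizer_o2 R)).trans f.NT)

/-- `O²(R)` moves `z_1` and `z_3`. -/
theorem odd1 : ∃ r ∈ oddGen R, r * z 1 ≠ z 1 * r := by
  by_contra hcon
  push Not at hcon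
  apply f.nR
  rw [← oddGen_sup f.syl]
  refine sup_le (fun r hr => f.X34 ?_) f.T_le
  have hrR := oddGen_le R hr
  have c0 : Commute r (z 0) := f.R0 hrR
  have c1 : Commute r (z 1) := hcon r hr
  have c2 : Commute r (z 2) := by
    have e : z 2 = z 1 * (z 1 * z 2) := by rw [← mul_assoc, f.sq, one_mul]
    rw [e]
    exact c1.mul_right (f.Rx r hrR)
  rw [mem_centralizer_iff]
  rintro _ (rfl | rfl | rfl)
  · exact c0.eq.symm
  · exact c1.eq.symm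
  · exact c2.eq.symm

theorem odd3 : ∃ r ∈ oddGen R, r * z 3 ≠ z 3 * r := by
  by_contra hcon
  push Not at hcon
  apply f.nR
  rw [← oddGen_sup f.syl]
  refine sup_le (fun r hr => f.X12 ?_) f.T_le
  have hrR := oddGen_le R hr
  have c0 : Commute r (z 0) := f.R0 hrR
  have c1 : Commute r (z 3) := hcon r hr
  have c2 : Commute r (z 4) := by
    have e : z 4 = z 3 * (z 3 * z 4) := by rw [← mul_assoc, f.sq, one_mul]
    rw [e]
    exact c1.mul_right (f.Ry r hrR)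
  rw [mem_centralizer_iff]
  rintro _ (rfl | rfl | rfl)
  · exact c0.eq.symm
  · exact c1.eq.symm
  · exact c2.eq.symm

/-- **(2)**: `O₂(R)` moves `w` if `O²(R)` does. -/
theorem mv {w : G} (hw : w ∈ U) (ho : ∃ r ∈ oddGen R, r * w ≠ w * r) : ∃ k ∈ o2 R, k * w ≠ w * k := by
  by_contra hcon
  push Not at hcon
  obtain ⟨r, hr, hrw⟩ := ho
  apply hrw
  refine f.one (Mod (closure {z 1 * z 2, z 3 * z 4}) R w) (f.Mod_U hw) (fun r hr e he => f.Mod_norm hr he) ?_ r hr w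
    (mem_Mod _ _ _)
  intro e he k hk
  have h1 : Mod (closure {z 1 * z 2, z 3 * z 4}) R w ≤ centralizer ({k} : Set G) := by
    refine Mod_le (fun d hd => mem_centralizer_singleton_iff.2 ?_) fun r hr => mem_centralizer_singleton_iff.2 ?_
    · have h2 := f.D_cent (f.TR (f.OT hk)) hd
      rw [mul_inv_eq_iff_eq_mul] at h2
      exact h2.symm
    · have h2 := hcon _ (f.on' hr hk)
      calc r * w * r⁻¹ * k = r * (w * (r⁻¹ * k * r)) * r⁻¹ := by group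
        _ = r * ((r⁻¹ * k * r) * w) * r⁻¹ := by rw [h2]
        _ = k * (r * w * r⁻¹) := by group
  exact (mem_centralizer_singleton_iff.1 (h1 he)).symm

/-- the commutators with `O₂(R)` -/
theorem comm_Mod {w x : G} (hw : w ∈ U) (hx : x ∈ closure {z 1 * z 2, z 3 * z 4})
    (hc : ∀ t ∈ T, t * w * t⁻¹ * w⁻¹ = 1 ∨ t * w * t⁻¹ * w⁻¹ = x) :
    ∀ b ∈ o2 R, ∀ e ∈ Mod (closure {z 1 * z 2, z 3 * z 4}) R w, b * e * b⁻¹ * e⁻¹ = 1 ∨ b * e * b⁻¹ * e⁻¹ = x := by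
  intro b hb e he
  have hxx : x * x = 1 := f.Us _ (f.D_U hx)
  have hOR : o2 R ≤ R := f.OT.trans f.TR
  let K : Subgroup G :=
    { carrier := {e | e ∈ U ∧ ∀ b ∈ o2 R, b * e * b⁻¹ * e⁻¹ = 1 ∨ b * e * b⁻¹ * e⁻¹ = x}
      one_mem' := ⟨one_mem _, fun b _ => Or.inl (by group)⟩
      mul_mem' := by
        rintro e e' ⟨he, h2⟩ ⟨he', h3⟩
        refine ⟨mul_mem he he', fun b hb => ?_⟩
        have h4 : b * e' * b⁻¹ * e'⁻¹ ∈ U := mul_mem (f.Rn (hOR hb) _ he') (inv_mem he')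
        have h5 : b * (e * e') * b⁻¹ * (e * e')⁻¹ = (b * e * b⁻¹ * e⁻¹) * (b * e' * b⁻¹ * e'⁻¹) :=
          comm_prod (f.Uc _ he _ h4)
        rw [h5]
        rcases h2 b hb with h6 | h6 <;> rcases h3 b hb with h7 | h7 <;> rw [h6, h7]
        · left; rw [one_mul]
        · right; rw [one_mul]
        · right; rw [mul_one]
        · left; exact hxx
      inv_mem' := by
        rintro e ⟨he, h2⟩
        refine ⟨inv_mem he, fun b hb => ?_⟩
        have hei : e⁻¹ = e := inv_eq_of_mul_eq_one_left (f.Us _ he)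
        rw [hei]
        exact h2 b hb }
  have h1 : Mod (closure {z 1 * z 2, z 3 * z 4}) R w ≤ K := by
    refine Mod_le (fun d hd => ⟨f.D_U hd, fun b hb => Or.inl ?_⟩) fun r hr => ?_
    · rw [f.D_cent (hOR hb) hd, mul_inv_cancel]
    · refine ⟨f.Rn hr _ hw, fun b hb => ?_⟩
      have hb' : r⁻¹ * b * r⁻¹⁻¹ ∈ o2 R := f.on (inv_mem hr) hb
      have e1 : b * (r * w * r⁻¹) * b⁻¹ * (r * w * r⁻¹)⁻¹ =
          r * ((r⁻¹ * b * r⁻¹⁻¹) * w * (r⁻¹ * b * r⁻¹⁻¹)⁻¹ * w⁻¹) * r⁻¹ := by group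
      rw [e1]
      rcases hc _ (f.OT hb') with h2 | h2
      · left; rw [h2]; group
      · right; rw [h2, f.D_cent hr hx]
  exact (h1 he).2 b hb

/-- **(3)**: `C_T(M / I) ≤ O₂(R)` if `O₂(R)` centralises `I` and `O²(R)` moves `w ∈ M`. -/
theorem three {M I : Subgroup G} {w : G} (hMU : M ≤ U) (hM : ∀ r ∈ R, ∀ e ∈ M, r * e * r⁻¹ ∈ M)
    (hIM : I ≤ M) (hI : ∀ r ∈ R, ∀ e ∈ I, r * e * r⁻¹ ∈ I) (hKI : ∀ e ∈ I, ∀ k ∈ o2 R, k * e = e * k)
    (hw : w ∈ M) (ho : ∃ r ∈ oddGen R, r * w ≠ w * r) {b : G} (hb : b ∈ T)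
    (hc : ∀ e ∈ M, b * e * b⁻¹ * e⁻¹ ∈ I) : b ∈ o2 R := by
  let N : Subgroup G :=
    { carrier := {r | r ∈ R ∧ ∀ e ∈ M, r * e * r⁻¹ * e⁻¹ ∈ I}
      one_mem' := ⟨one_mem _, fun e _ => by
        have : (1 : G) * e * 1⁻¹ * e⁻¹ = 1 := by group
        rw [this]; exact one_mem _⟩
      mul_mem' := by
        rintro r s ⟨hr, h2⟩ ⟨hs, h3⟩
        refine ⟨mul_mem hr hs, fun e he => ?_⟩
        have h4 : (r * s) * e * (r * s)⁻¹ * e⁻¹ = r * (s * e * s⁻¹ * e⁻¹) * r⁻¹ * (r * e * r⁻¹ * e⁻¹) := by group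
        rw [h4]
        exact mul_mem (hI r hr _ (h3 e he)) (h2 e he)
      inv_mem' := by
        rintro r ⟨hr, h2⟩
        refine ⟨inv_mem hr, fun e he => ?_⟩
        have h3 : r⁻¹ * e * r⁻¹⁻¹ ∈ M := hM _ (inv_mem hr) e he
        have h4 := h2 _ h3
        have h5 : r * (r⁻¹ * e * r⁻¹⁻¹) * r⁻¹ * (r⁻¹ * e * r⁻¹⁻¹)⁻¹ = (r⁻¹ * e * r⁻¹⁻¹ * e⁻¹)⁻¹ := by group
        rw [h5] at h4
        have := inv_mem h4
        rwa [inv_inv] at this }
  have hNR : N ≤ R := fun r hr => hr.1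
  have hNn : R ≤ normalizer (N : Set G) := by
    intro r hr
    refine mem_normalizer_of_cj_le ?_
    rintro _ ⟨s, hs, rfl⟩
    change r * s * r⁻¹ ∈ N
    refine ⟨R.mul_mem (R.mul_mem hr hs.1) (R.inv_mem hr), fun e he => ?_⟩
    have h3 : r⁻¹ * e * r⁻¹⁻¹ ∈ M := hM _ (inv_mem hr) e he
    have h4 := hs.2 _ h3
    have h5 : r * s * r⁻¹ * e * (r * s * r⁻¹)⁻¹ * e⁻¹ =
        r * (s * (r⁻¹ * e * r⁻¹⁻¹) * s⁻¹ * (r⁻¹ * e * r⁻¹⁻¹)⁻¹) * r⁻¹ := by group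
    rw [h5]
    exact hI r hr _ h4
  refine (f.sup_or hNR hNn).resolve_left (fun h0 => ?_) ⟨hb, f.TR hb, hc⟩
  -- `O²(R) ≤ N` centralises `M`
  have h1 : oddGen R ≤ N := oddGen_le_of_sup hNn h0.ge f.TR hNR f.T2
  obtain ⟨r, hr, hrw⟩ := ho
  apply hrw
  have h2 : oddGen R ≤ centralizer ({w} : Set G) := by
    rw [oddGen_def, closure_le]
    rintro g ⟨hgR, hgo⟩
    have hg := mem_oddGen hgR hgo
    have hi : g * w * g⁻¹ * w⁻¹ ∈ I := (h1 hg).2 w hw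
    obtain ⟨i, hid⟩ : ∃ i, i = g * w * g⁻¹ * w⁻¹ := ⟨_, rfl⟩
    rw [← hid] at hi
    have hgi : g * i = i * g := f.one I (hIM.trans hMU) hI hKI g hg i hi
    have hii : i * i = 1 := f.Us _ (hMU (hIM hi))
    have hpow : ∀ n : ℕ, g ^ n * w * (g ^ n)⁻¹ = i ^ n * w := by
      intro n
      induction n with
      | zero => simp
      | succ n ih =>
        have hgin : g * i ^ n = i ^ n * g := ((Commute.pow_right (show Commute g i from hgi) n)).eq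
        calc g ^ (n + 1) * w * (g ^ (n + 1))⁻¹ = g * (g ^ n * w * (g ^ n)⁻¹) * g⁻¹ := by rw [pow_succ' g n]; group
          _ = g * (i ^ n * w) * g⁻¹ := by rw [ih]
          _ = (g * i ^ n) * w * g⁻¹ := by group
          _ = i ^ n * (g * w * g⁻¹ * w⁻¹) * w := by rw [hgin]; group
          _ = i ^ (n + 1) * w := by rw [← hid, pow_succ]
    have h3 := hpow (orderOf g)
    rw [pow_orderOf_eq_one, one_mul, inv_one, mul_one] at h3
    obtain ⟨m, hm⟩ := hgo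
    have h4 : i ^ orderOf g = i := by rw [hm, pow_succ, pow_mul, pow_two, hii, one_pow, one_mul]
    rw [h4] at h3
    have h5 : i = 1 := right_eq_mul.1 h3
    rw [h5] at hid
    exact mem_centralizer_singleton_iff.2 (comm_iff.1 hid.symm)
  exact mem_centralizer_singleton_iff.1 (h2 hr)

end Fr

end Cfsg.Agent.Omega.NO3S.TwoA
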