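import Cfsg.Agent.Omega.NO3S.TwoA.Mem
import Cfsg.Agent.Omega.NO3S.TwoA.Off

/-!
# LightL, `n = 5`: the members of LEMMA (1'U) (helper433 #26100 (1) (i), (ii))

* `Mb z Q W i j F a` : `F ≤ Q` elementary abelian, `a` normalises `Q` and induces `(i j)` on `V`,
  `[C_W(F), a] ≤ ⟨z_i z_j⟩`, `|M : C_M(F)| ≤ |F : C_F(M)|` for `M ≤ W`;
* `Mb.exists_of` : from a member `A'` of `A(O')` acting as `⟨(i j)⟩` on `V`, `V ≤ W ≤ O'`.
-/

set_option autoImplicit false
set_option linter.unusedSectionVars false

namespace Cfsg.Agent.Omega.NO3S.TwoA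

open Subgroup Cfsg Cfsg.Agent.PLocal.ThompsonJ Cfsg.Agent.ZN Cfsg.Agent.ZN.ChoiceBase
open Cfsg.Agent.ZN.ChoiceSit Cfsg.Agent.PLocal.ElemAbSup
open Cfsg.Agent.Omega.SQ1.Bau (mem_AA_of_comm elem_comm elem_sq mem_sup_comm card_sup_comm)
open Cfsg.Agent.Omega.NSix.CaseJ.Exact (two_mul_card_le card_le_two sup_elem)

universe u

variable {G : Type u} [Group G]

/-- the situation of (i), (ii) -/
structure Mb (z : Fin 5 → G) (Q W : Subgroup G) (i j : Fin 5) (F : Subgroup G) (a : G) : Prop where
  FQ : F ≤ Q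
  el : IsElementaryAbelian 2 F
  aQ : ∀ q ∈ Q, a * q * a⁻¹ ∈ Q
  act : ∀ k, a * z k * a⁻¹ = z (Equiv.swap i j k)
  sep : ∀ u ∈ W, (∀ b ∈ F, b * u = u * b) → a * u * a⁻¹ = u ∨ a * u * a⁻¹ = u * (z i * z j)
  off : ∀ M : Subgroup G, M ≤ W → (centralizer (F : Set G)).relIndex M ≤ (centralizer (M : Set G)).relIndex F

theorem card_mul_relIndex [Finite G] (M K : Subgroup G) : Nat.card M = K.relIndex M * Nat.card ↥(M ⊓ K) := by
  have h1 := Subgroup.card_mul_index (K.subgroupOf M)
  have h2 : Nat.card (K.subgroupOf M) = Nat.card ↥(M ⊓ K) := by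
    rw [← inf_subgroupOf_right, inf_comm]
    exact Nat.card_congr (subgroupOfEquivOfLe inf_le_left).toEquiv
  rw [h2] at h1
  rw [← h1, mul_comm]
  rfl

/-- `|M : C_M(F)| ≤ |F : C_F(M)|` in terms of orders. -/
theorem relIndex_le_of [Finite G] {M F : Subgroup G}
    (h : Nat.card M * Nat.card ↥(F ⊓ centralizer (M : Set G)) ≤ Nat.card F * Nat.card ↥(M ⊓ centralizer (F : Set G))) :
    (centralizer (F : Set G)).relIndex M ≤ (centralizer (M : Set G)).relIndex F := by
  rw [card_mul_relIndex M (centralizer (F : Set G)), card_mul_relIndex F (centralizer (M : Set G))] at h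
  have h1 : 0 < Nat.card ↥(F ⊓ centralizer (M : Set G)) := Nat.card_pos
  have h2 : 0 < Nat.card ↥(M ⊓ centralizer (F : Set G)) := Nat.card_pos
  refine Nat.le_of_mul_le_mul_right ?_ (Nat.mul_pos h1 h2)
  calc _ = (centralizer (F : Set G)).relIndex M * Nat.card ↥(M ⊓ centralizer (F : Set G)) *
        Nat.card ↥(F ⊓ centralizer (M : Set G)) := by ring
    _ ≤ _ := h
    _ = _ := by ring

/-- `[u, C_A(V)] = 1` etc. for `M V` -/
theorem Of.off [Finite G] {V O' A : Subgroup G} {a p : G} (h : Of V O' A a p) {W M : Subgroup G}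
    (hW : IsElementaryAbelian 2 W) (hVW : V ≤ W) (hWO : W ≤ O') (hM : M ≤ W) :
    (centralizer ((A ⊓ centralizer (V : Set G) : Subgroup G) : Set G)).relIndex M ≤
      (centralizer (M : Set G)).relIndex (A ⊓ centralizer (V : Set G)) := by
  apply relIndex_le_of
  have Wc := elem_comm hW
  have h0 := h.A0_comm
  set F := A ⊓ centralizer (V : Set G) with hF
  have hXW : M ⊔ V ≤ W := sup_le hM hVW
  have h1 := h.count0 (isElementaryAbelian_mono hW hXW) le_sup_right (hXW.trans hWO)
  rw [← hF] at h1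
  have hVF : V ≤ centralizer (F : Set G) := fun v hv => mem_centralizer_iff.2 fun b hb => h0 b hb v hv
  have e1 : F ⊓ centralizer ((M ⊔ V : Subgroup G) : Set G) = F ⊓ centralizer (M : Set G) := by
    apply le_antisymm
    · exact inf_le_inf_left _ (centralizer_le (SetLike.coe_subset_coe.2 le_sup_left))
    · rintro b ⟨hb, hbM⟩
      refine ⟨hb, ?_⟩
      have h2 : M ⊔ V ≤ centralizer ({b} : Set G) := sup_le
        (fun m hm => mem_centralizer_singleton_iff.2 (mem_centralizer_iff.1 hbM m hm))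
        (fun v hv => mem_centralizer_singleton_iff.2 (h0 b hb v hv).symm)
      exact mem_centralizer_iff.2 fun y hy => mem_centralizer_singleton_iff.1 (h2 hy)
  have e2 : (M ⊔ V) ⊓ centralizer (F : Set G) = (M ⊓ centralizer (F : Set G)) ⊔ V := by
    apply le_antisymm
    · rintro y ⟨hy, hyF⟩
      obtain ⟨m, hm, v, hv, rfl⟩ := mem_sup_comm (fun x hx y hy => Wc x (hM hx) y (hVW hy)) hy
      refine mul_mem_sup ⟨hm, ?_⟩ hv
      have hyF' : m * v ∈ centralizer (F : Set G) := hyF
      have h2 := (centralizer (F : Set G)).mul_mem hyF' ((centralizer (F : Set G)).inv_mem (hVF hv))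
      rwa [mul_inv_cancel_right] at h2
    · exact sup_le (inf_le_inf_right _ le_sup_left) (le_inf le_sup_right hVF)
  rw [e1, e2] at h1
  have c1 := card_sup_comm (A := M) (B := V) fun x hx y hy => Wc x (hM hx) y (hVW hy)
  have c2 := card_sup_comm (A := M ⊓ centralizer (F : Set G)) (B := V) fun x hx y hy => Wc x (hM hx.1) y (hVW hy)
  have e3 : M ⊓ centralizer (F : Set G) ⊓ V = M ⊓ V := by
    apply le_antisymm
    · exact fun x hx => ⟨hx.1.1, hx.2⟩
    · exact fun x hx => ⟨⟨hx.1, hVF hx.2⟩, hx.2⟩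
  rw [e3] at c2
  have hp : 0 < Nat.card V := Nat.card_pos
  have hq : 0 < Nat.card ↥(M ⊓ V) := Nat.card_pos
  refine Nat.le_of_mul_le_mul_right ?_ hp
  calc Nat.card M * Nat.card ↥(F ⊓ centralizer (M : Set G)) * Nat.card V
      = (Nat.card ↥(M ⊔ V) * Nat.card ↥(F ⊓ centralizer (M : Set G))) * Nat.card ↥(M ⊓ V) := by
        rw [mul_right_comm, ← c1]; ring
    _ ≤ (Nat.card F * Nat.card ↥((M ⊓ centralizer (F : Set G)) ⊔ V)) * Nat.card ↥(M ⊓ V) :=
        Nat.mul_le_mul_right _ h1
    _ = Nat.card F * Nat.card ↥(M ⊓ centralizer (F : Set G)) * Nat.card V := by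
        rw [mul_assoc, c2]; ring

/-- **(1) (i), (ii).** -/
theorem Mb.exists_of [Finite G] {z : Fin 5 → G} (inj : Function.Injective z) (sq : ∀ a, z a * z a = 1)
    (comm : ∀ a b, z a * z b = z b * z a) {i j : Fin 5} (hij : i ≠ j)
    {V O' Q W A : Subgroup G} (hV : V = closure (Set.range z)) (hA : A ∈ AA O') (hs : Sh z i j A)
    (hW : IsElementaryAbelian 2 W) (hVW : V ≤ W) (hWO : W ≤ O') (hOQ : O' ⊓ centralizer (V : Set G) ≤ Q)
    (hOn : O' ≤ normalizer (Q : Set G)) : ∃ F a, Mb z Q W i j F a := by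
  obtain ⟨a, haA, hact⟩ := hs.2
  have hVel : IsElementaryAbelian 2 V := isElementaryAbelian_mono hW hVW
  have zV : ∀ k, z k ∈ V := fun k => hV ▸ subset_closure ⟨k, rfl⟩
  have key : ∀ b : G, (∀ k, b * z k = z k * b) → b ∈ centralizer (V : Set G) := by
    intro b hb
    have h1 : V ≤ centralizer ({b} : Set G) := by
      rw [hV, closure_le]
      rintro _ ⟨k, rfl⟩
      exact mem_centralizer_singleton_iff.2 (hb k).symm
    exact mem_centralizer_iff.2 fun v hv => mem_centralizer_singleton_iff.1 (h1 hv)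
  have hp2 : z i * z j * (z i * z j) = 1 := by
    have := elem_sq hVel _ (mul_mem (zV i) (zV j))
    rwa [pow_two] at this
  have cV : ∀ v ∈ V, a * v * a⁻¹ = v ∨ a * v * a⁻¹ = v * (z i * z j) := by
    let K : Subgroup G :=
      { carrier := {v | v ∈ V ∧ (a * v * a⁻¹ = v ∨ a * v * a⁻¹ = v * (z i * z j))}
        one_mem' := ⟨one_mem _, Or.inl (by group)⟩
        mul_mem' := by
          rintro v w ⟨hv, h1⟩ ⟨hw, h2⟩
          refine ⟨mul_mem hv hw, ?_⟩
          have e1 : a * (v * w) * a⁻¹ = (a * v * a⁻¹) * (a * w * a⁻¹) := by group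
          have e2 : (z i * z j) * w = w * (z i * z j) := elem_comm hVel _ (mul_mem (zV i) (zV j)) w hw
          rw [e1]
          rcases h1 with h1 | h1 <;> rcases h2 with h2 | h2 <;> rw [h1, h2]
          · left; rfl
          · right; rw [mul_assoc]
          · right
            rw [mul_assoc, e2, ← mul_assoc]
          · left
            calc v * (z i * z j) * (w * (z i * z j)) = v * ((z i * z j) * w) * (z i * z j) := by group
              _ = v * w * ((z i * z j) * (z i * z j)) := by rw [e2]; group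
              _ = v * w := by rw [hp2, mul_one]
        inv_mem' := by
          rintro v ⟨hv, h1⟩
          have hvi : v⁻¹ = v := by
            have := elem_sq hVel _ hv
            rw [pow_two] at this
            exact inv_eq_of_mul_eq_one_left this
          exact ⟨inv_mem hv, by rw [hvi]; exact h1⟩ }
    have hK : V ≤ K := by
      rw [hV, closure_le]
      rintro _ ⟨k, rfl⟩
      refine ⟨zV k, ?_⟩
      rw [hact]
      by_cases hk : k = i
      · right
        rw [hk, Equiv.swap_apply_left, ← mul_assoc, sq, one_mul]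
      · by_cases hk' : k = j
        · right
          rw [hk', Equiv.swap_apply_right, comm i j, ← mul_assoc, sq, one_mul]
        · left
          rw [Equiv.swap_apply_of_ne_of_ne hk hk']
    exact fun v hv => (hK hv).2
  have hof : Of V O' A a (z i * z j) :=
    { elem := hA.1
      le := hA.2.1
      max := hA.2.2
      Vel := hVel
      VO := hVW.trans hWO
      aA := haA
      nV := ⟨z i, zV i, fun e => by
        have h1 := hact i
        rw [e, mul_inv_cancel_right, Equiv.swap_apply_left] at h1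
        exact hij (inj h1)⟩
      pV := mul_mem (zV i) (zV j)
      cV := cV
      two := fun b hb hbn => by
        have hb' : ∀ k, b * z k * b⁻¹ = z (Equiv.swap i j k) := by
          rcases hs.1 b hb with h1 | h1
          · exact absurd (key b h1) hbn
          · exact h1
        refine key _ fun k => ?_
        have e1 := hb' k
        have e2 := hact k
        have e3 : b * z k * b⁻¹ = a * z k * a⁻¹ := e1.trans e2.symm
        calc a⁻¹ * b * z k = a⁻¹ * (b * z k * b⁻¹) * b := by group
          _ = a⁻¹ * (a * z k * a⁻¹) * b := by rw [e3]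
          _ = z k * (a⁻¹ * b) := by group }
  refine ⟨A ⊓ centralizer (V : Set G), a, ?_, isElementaryAbelian_mono hA.1 inf_le_left, fun q hq =>
    (mem_normalizer_iff.1 (hOn (hA.2.1 haA)) q).1 hq, hact, fun u hu hc => hof.act hW hVW hWO hu hc, fun M hM =>
    hof.off hW hVW hWO hM⟩
  exact (inf_le_inf_right _ hA.2.1).trans hOQ

end Cfsg.Agent.Omega.NO3S.TwoA
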